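import Cfsg.Agent.Lib.Small.ConstrainedFive.TwoLayers
import Cfsg.Agent.Lib.PGroups.ExtraspecialBasis
import Cfsg.Agent.Lib.PGroups.UniqueOrderP
import Cfsg.Agent.Lib.Classical.Dihedral

/-!
# The layers centralised by the alternating group
-/

set_option autoImplicit false
set_option linter.unusedSectionVars false
set_option linter.style.haveILetI false

namespace CfsgLib.Small.ConstrainedFive

open Subgroup
open scoped commutatorElement

variable {Y : Type*} [Group Y] [Finite Y] {Q : Subgroup Y}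

/-- An element whose `p`-th power lies in `Q` can be replaced by one of order `p`. -/
theorem exists_lift (D : Five Y Q) {p : ℕ} (hp : Nat.Coprime 2 p) {y : Y} (hy : y ^ p ∈ Q)
    (hyQ : y ∉ Q) : ∃ y₀ : Y, y₀ ^ p = 1 ∧ y₀ ^ p ∈ Q ∧ y₀ ∉ Q := by
  haveI := D.normal
  obtain ⟨i, hi⟩ := D.two ⟨_, hy⟩
  have h1 : (y ^ p) ^ 2 ^ i = 1 := congrArg Subtype.val hi
  have h0 : (y ^ 2 ^ i) ^ p = 1 := by rw [← pow_mul, mul_comm, pow_mul, h1]
  refine ⟨y ^ 2 ^ i, h0, h0 ▸ one_mem Q, fun h => hyQ ?_⟩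
  rw [← QuotientGroup.eq_one_iff] at h hy ⊢
  rw [QuotientGroup.mk_pow] at h hy
  rw [← orderOf_eq_one_iff]
  exact Nat.eq_one_of_dvd_coprimes (Nat.Coprime.pow_left i hp)
    (orderOf_dvd_of_pow_eq_one h) (orderOf_dvd_of_pow_eq_one hy)

theorem card_preimage_hom {A B : Type*} [Group A] [Group B] (f : A →* B)
    (hf : Function.Surjective f) (s : Set B) :
    Nat.card ↥(f ⁻¹' s) = Nat.card f.ker * Nat.card s := by
  let e := QuotientGroup.quotientKerEquivOfSurjective f hf
  have h1 : f ⁻¹' s = QuotientGroup.mk ⁻¹' (e ⁻¹' s) := rfl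
  rw [h1, Nat.card_congr (QuotientGroup.preimageMkEquivSubgroupProdSet f.ker (e ⁻¹' s)),
    Nat.card_prod, Nat.card_preimage_of_injective e.injective (by
      rw [Set.range_eq_univ.2 e.surjective]; exact Set.subset_univ s)]

/-- One centralised layer below the top: an extraspecial group with twelve square roots of one. -/
theorem one_layer (D : Five Y Q) (R : Subgroup Y) [R.Normal] (hRQ : R ≤ Q) (hR2 : Nat.card R = 2)
    (hsq : ∀ x ∈ Q, x ^ 2 ∈ R) (hne : ∃ x ∈ Q, x ^ 2 ≠ 1)
    (hV : ∃ y : Y, ∃ x ∈ Q, ⁅y, x⁆ ∉ R) :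
    Cfsg.IsExtraspecial 2 Q ∧ Nat.card Q = 32 ∧
      ∃ γ : MulAut Q, γ ^ 5 = 1 ∧ ∀ q, γ q = q → q ∈ center Q := by
  classical
  haveI : Fact (Nat.Prime 2) := ⟨Nat.prime_two⟩
  haveI := D.normal
  set π := QuotientGroup.mk' R with hπ
  haveI : (Q.map π).Normal := Subgroup.Normal.map inferInstance π (QuotientGroup.mk'_surjective R)
  obtain ⟨hKexp, hKab⟩ := top_layer D R hsq
  have hKcen : ∀ q ∈ Q.map π, ∀ k ∈ Q.map π, q * k = k * q := hKab
  have hπR : ∀ x : Y, π x = 1 ↔ x ∈ R := fun x => QuotientGroup.eq_one_iff x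
  have hKne : ¬ ∀ y : Y ⧸ R, ∀ k ∈ Q.map π, y * k = k * y := by
    intro h
    obtain ⟨y, x, hx, hyx⟩ := hV
    refine hyx ((hπR _).1 ?_)
    rw [map_commutatorElement, commutatorElement_eq_one_iff_mul_comm]
    exact h _ _ (Subgroup.mem_map_of_mem _ hx)
  obtain ⟨h16, hfree, -⟩ :=
    ((D.quot R hRQ).dichotomy (Q.map π) hKab hKexp hKcen).resolve_left hKne
  have hR' : Nat.card (R.subgroupOf Q) = 2 :=
    (Nat.card_congr (Subgroup.subgroupOfEquivOfLe hRQ).toEquiv).trans hR2
  have hindex : (R.subgroupOf Q).index = 16 := by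
    rw [← h16, show (R.subgroupOf Q).index = R.relIndex Q from rfl]
    conv_lhs => rw [← QuotientGroup.ker_mk' R]
    exact Subgroup.relIndex_ker Q π
  have hQ32 : Nat.card Q = 32 := by
    rw [← Subgroup.card_mul_index (R.subgroupOf Q), hR', hindex]
  -- R is central
  have hRc : ∀ r ∈ R, ∀ y : Y, y * r = r * y := by
    intro r hr y
    by_cases hr1 : r = 1
    · simp [hr1]
    have h2 := (Nat.card_eq_two_iff' (1 : R)).1 hR2
    obtain ⟨w, -, hw⟩ := h2
    have hconj : y * r * y⁻¹ ∈ R := (inferInstance : R.Normal).conj_mem r hr y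
    have ha := hw ⟨r, hr⟩ fun h => hr1 (congrArg Subtype.val h)
    have hb := hw ⟨_, hconj⟩ fun h => hr1 (by
      have h' : y * r * y⁻¹ = 1 := congrArg Subtype.val h
      rwa [conj_eq_one_iff] at h')
    exact mul_inv_eq_iff_eq_mul.1 (congrArg Subtype.val (hb.trans ha.symm) :)
  have hRexp : ∀ r ∈ R, r ^ 2 = 1 := fun r hr => by
    have := pow_card_eq_one' (G := R) (x := ⟨r, hr⟩)
    rw [hR2] at this
    exact congrArg Subtype.val this
  -- the centre
  set Zc := (center Q).map Q.subtype with hZc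
  haveI : Zc.Normal := inferInstance
  have hRZ : R ≤ Zc := fun r hr =>
    ⟨⟨r, hRQ hr⟩, Subgroup.mem_center_iff.2 fun q => Subtype.ext (hRc r hr q), rfl⟩
  haveI : (Zc.map π).Normal := Subgroup.Normal.map inferInstance π (QuotientGroup.mk'_surjective R)
  have hcenter : center Q = R.subgroupOf Q := by
    rcases (D.quot R hRQ).irreducible (Q.map π) hKab hKexp hKcen hKne (Zc.map π)
      (Subgroup.map_mono (Subgroup.map_subtype_le _)) with h | h
    · refine le_antisymm (fun q hq => Subgroup.mem_subgroupOf.2 ((hπR _).1 ?_))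
        fun q hq => ?_
      · exact Subgroup.mem_bot.1 (h ▸ Subgroup.mem_map_of_mem π ⟨q, hq, rfl⟩)
      · obtain ⟨q', hq', he⟩ := hRZ (Subgroup.mem_subgroupOf.1 hq)
        exact (Subtype.ext he : q' = q) ▸ hq'
    · exfalso
      have hab : ∀ a b : Q, a * b = b * a := by
        intro a b
        obtain ⟨c, hc, he⟩ := (h.ge (Subgroup.mem_map_of_mem π a.2) : π a ∈ Zc.map π)
        obtain ⟨a', ha', rfl⟩ := hc
        have hr : (a' : Y)⁻¹ * a ∈ R := QuotientGroup.eq.1 he
        obtain ⟨r', hr', her⟩ := hRZ hr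
        have : a = a' * r' := Subtype.ext (by
          show (a : Y) = a' * Q.subtype r'
          rw [her, mul_inv_cancel_left])
        rw [this]
        exact (Subgroup.mem_center_iff.1 (mul_mem ha' hr') b).symm
      let sqh : Q →* Q := MonoidHom.mk' (fun q => q ^ 2) fun a b => Commute.mul_pow (hab a b) 2
      set U := sqh.ker.map Q.subtype with hU
      have hUmem : ∀ {x : Y}, x ∈ U ↔ x ∈ Q ∧ x ^ 2 = 1 := fun {x} =>
        ⟨fun ⟨q, hq, he⟩ => he ▸ ⟨q.2, congrArg Subtype.val (MonoidHom.mem_ker.1 hq)⟩,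
          fun ⟨hx, h2⟩ => ⟨⟨x, hx⟩, MonoidHom.mem_ker.2 (Subtype.ext h2), rfl⟩⟩
      haveI : U.Normal := ⟨fun n hn y => hUmem.2
        ⟨(inferInstance : Q.Normal).conj_mem n (hUmem.1 hn).1 y,
          by rw [conj_pow, (hUmem.1 hn).2, mul_one, mul_inv_cancel]⟩⟩
      haveI : (U.map π).Normal :=
        Subgroup.Normal.map inferInstance π (QuotientGroup.mk'_surjective R)
      have hRU : R ≤ U := fun r hr => hUmem.2 ⟨hRQ hr, hRexp r hr⟩
      rcases (D.quot R hRQ).irreducible (Q.map π) hKab hKexp hKcen hKne (U.map π)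
        (Subgroup.map_mono fun x hx => (hUmem.1 hx).1) with h' | h'
      · have hU2 : Nat.card U ≤ 2 := hR2 ▸ Subgroup.card_le_of_le fun x hx =>
          (hπR x).1 (Subgroup.mem_bot.1 (h' ▸ Subgroup.mem_map_of_mem π hx))
        have hker : Nat.card sqh.ker ≤ 2 := by
          rwa [hU, Subgroup.card_map_of_injective Q.subtype_injective] at hU2
        have hrange : Nat.card sqh.range ≤ 2 := by
          refine hR' ▸ Subgroup.card_le_of_le ?_
          rintro _ ⟨q, rfl⟩
          exact Subgroup.mem_subgroupOf.2 (hsq q q.2)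
        have := Subgroup.card_mul_index sqh.ker
        rw [Subgroup.index_ker, hQ32] at this
        nlinarith
      · obtain ⟨x, hx, hx2⟩ := hne
        obtain ⟨u, hu, he⟩ := (h'.ge (Subgroup.mem_map_of_mem π hx) : π x ∈ U.map π)
        have := mul_mem hu (hRU (QuotientGroup.eq.1 he))
        rw [mul_inv_cancel_left] at this
        exact hx2 (hUmem.1 this).2
  have hQp : IsPGroup 2 Q := D.two
  have hcomm : commutator Q ≤ center Q := by
    rw [hcenter, _root_.commutator_def, Subgroup.commutator_le]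
    exact fun a _ b _ => Subgroup.mem_subgroupOf.2 (commutator_mem_of_squares D R hsq a.2 b.2)
  have hne' : commutator Q ≠ ⊥ := by
    intro h
    obtain ⟨y, hy⟩ : ∃ q : Q, q ∉ R.subgroupOf Q := by
      by_contra hcon
      push Not at hcon
      rw [show R.subgroupOf Q = ⊤ from eq_top_iff.2 fun q _ => hcon q, Subgroup.index_top] at hindex
      omega
    refine hy (hcenter ▸ Subgroup.mem_center_iff.2 fun q => ?_)
    exact commutatorElement_eq_one_iff_mul_comm.1 (Subgroup.mem_bot.1 (h ▸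
      commutator_mem_commutator (mem_top q) (mem_top y)))
  have hcard : Nat.card (center Q) = 2 := hcenter ▸ hR'
  have heq : commutator Q = center Q := by
    refine Subgroup.eq_of_le_of_card_ge hcomm ?_
    rw [hcard]
    exact Subgroup.one_lt_card_iff_ne_bot _ |>.2 hne'
  have hΦ : frattini Q = center Q := by
    refine le_antisymm ?_ (heq ▸ CfsgLib.PGroups.commutator_le_frattini hQp)
    exact CfsgLib.PGroups.frattini_le_of_elementary_quotient (p := 2) hcomm fun q => by
      rw [hcenter]; exact Subgroup.mem_subgroupOf.2 (hsq q q.2)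
  refine ⟨⟨⟨hQp, hΦ, heq⟩, hcard⟩, hQ32, ?_⟩
  obtain ⟨a, ha5, haQ5, haQ⟩ := exists_lift D (by norm_num) D.five D.five_notMem
  refine ⟨MulAut.conjNormal a, by rw [← map_pow, ha5, map_one], fun q hq => ?_⟩
  have hq' : a * (q : Y) = q * a := by
    have := congrArg Subtype.val hq
    rwa [MulAut.conjNormal_apply, mul_inv_eq_iff_eq_mul] at this
  rw [hcenter, Subgroup.mem_subgroupOf, ← hπR]
  refine hfree (π a) (by rw [← map_pow]; exact Subgroup.mem_map_of_mem _ haQ5) (fun h => haQ ?_)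
    (π q) (Subgroup.mem_map_of_mem _ q.2) (by rw [← map_mul, ← map_mul, hq'])
  obtain ⟨q', hq', he⟩ := h
  have := mul_mem hq' (hRQ (QuotientGroup.eq.1 he))
  rwa [mul_inv_cancel_left] at this

/-- A centralised four-group cannot lie immediately below the top. -/
theorem no_four_layer (D : Five Y Q) (P : Subgroup Y) [P.Normal] (hPQ : P ≤ Q)
    (hP4 : Nat.card P = 4) (hexp : ∀ x ∈ P, x ^ 2 = 1) (hsq : ∀ x ∈ Q, x ^ 2 ∈ P)
    (hcen : ∀ q ∈ Q, ∀ x ∈ P, q * x = x * q)
    (hV : ∃ y : Y, ∃ x ∈ Q, ⁅y, x⁆ ∉ P) (hgen : ∀ x ∈ P, ∃ q ∈ Q, q ^ 2 ∉ zpowers x) : False := by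
  classical
  haveI : Fact (Nat.Prime 2) := ⟨Nat.prime_two⟩
  haveI : Fact (Nat.Prime 3) := ⟨Nat.prime_three⟩
  haveI := D.normal
  have hPab : ∀ a ∈ P, ∀ b ∈ P, a * b = b * a := fun a ha b hb => hcen a (hPQ ha) b hb
  have hPc : ∀ y : Y, ∀ x ∈ P, y * x = x * y :=
    (D.dichotomy P hPab hexp hcen).resolve_right fun h => by omega
  set ρ := QuotientGroup.mk' P with hρ
  haveI : (Q.map ρ).Normal := Subgroup.Normal.map inferInstance ρ (QuotientGroup.mk'_surjective P)
  obtain ⟨hKexp, hKab⟩ := top_layer D P hsq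
  have hKcen : ∀ q ∈ Q.map ρ, ∀ k ∈ Q.map ρ, q * k = k * q := hKab
  have hρP : ∀ x : Y, ρ x = 1 ↔ x ∈ P := fun x => QuotientGroup.eq_one_iff x
  have hKne : ¬ ∀ y : Y ⧸ P, ∀ k ∈ Q.map ρ, y * k = k * y := by
    intro h
    obtain ⟨y, x, hx, hyx⟩ := hV
    refine hyx ((hρP _).1 ?_)
    rw [map_commutatorElement, commutatorElement_eq_one_iff_mul_comm]
    exact h _ _ (Subgroup.mem_map_of_mem _ hx)
  obtain ⟨h16, -, hfaith⟩ :=
    ((D.quot P hPQ).dichotomy (Q.map ρ) hKab hKexp hKcen).resolve_left hKne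
  set f := ρ.subgroupMap Q with hf
  have hfs : Function.Surjective f := MonoidHom.subgroupMap_surjective _ _
  have hfker : Nat.card f.ker = 4 := by
    rw [← hP4]
    exact Nat.card_congr
      { toFun := fun q => ⟨q.1, (hρP _).1 (congrArg Subtype.val (MonoidHom.mem_ker.1 q.2))⟩
        invFun := fun x => ⟨⟨x, hPQ x.2⟩, MonoidHom.mem_ker.2 (Subtype.ext ((hρP _).2 x.2))⟩
        left_inv := fun q => rfl
        right_inv := fun x => rfl }
  have hQ64 : Nat.card Q = 64 := by
    have := card_preimage_hom f hfs Set.univ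
    rw [Set.preimage_univ, Nat.card_univ, Nat.card_univ, hfker, h16] at this
    exact this
  set c : Y → ℕ := fun x => Nat.card {q : Q // (q : Y) ^ 2 = x} with hc
  have hc24 : ∀ x ∈ P, x ≠ 1 → c 1 + c x = 24 := by
    intro x hx hx1
    set S := zpowers x with hS
    have hSP : S ≤ P := zpowers_le.2 hx
    haveI : S.Normal := ⟨fun n hn y => by rw [hPc y n (hSP hn), mul_inv_cancel_right]; exact hn⟩
    have hS2 : Nat.card S = 2 := by rw [Nat.card_zpowers, orderOf_eq_prime (hexp x hx) hx1]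
    set σ := QuotientGroup.mk' S with hσ
    haveI : (P.map σ).Normal := Subgroup.Normal.map inferInstance σ (QuotientGroup.mk'_surjective S)
    have hσS : ∀ y : Y, σ y = 1 ↔ y ∈ S := fun y => QuotientGroup.eq_one_iff y
    have hP2 : Nat.card (P.map σ) = 2 := by
      rw [← Subgroup.relIndex_ker P σ, QuotientGroup.ker_mk']
      have := Subgroup.card_mul_index (S.subgroupOf P)
      rw [Nat.card_congr (Subgroup.subgroupOfEquivOfLe hSP).toEquiv, hS2, hP4] at this
      show (S.subgroupOf P).index = 2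
      omega
    obtain ⟨hes, h32, γ, hγ, hγf⟩ := one_layer (D.quot S (hSP.trans hPQ)) (P.map σ)
      (Subgroup.map_mono hPQ) hP2
      (by rintro _ ⟨q, hq, rfl⟩; rw [← map_pow]; exact Subgroup.mem_map_of_mem σ (hsq q hq))
      (by
        obtain ⟨q, hq, hqx⟩ := hgen x hx
        exact ⟨σ q, Subgroup.mem_map_of_mem σ hq, fun h => hqx ((hσS _).1 (by rwa [map_pow]))⟩)
      (by
        obtain ⟨y, q, hq, hyq⟩ := hV
        refine ⟨σ y, σ q, Subgroup.mem_map_of_mem σ hq, fun h => hyq ?_⟩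
        rw [← map_commutatorElement] at h
        obtain ⟨w, hw, he⟩ := h
        have := mul_mem hw (hSP (QuotientGroup.eq.1 he))
        rwa [mul_inv_cancel_left] at this)
    obtain ⟨zz, ES⟩ := exists_ESTwo hes
    have h12 := ES.card_sq_one h32 hγ hγf
    set f' := σ.subgroupMap Q
    have hf'k : Nat.card f'.ker = 2 := by
      rw [← hS2]
      exact Nat.card_congr
        { toFun := fun q => ⟨q.1, (hσS _).1 (congrArg Subtype.val (MonoidHom.mem_ker.1 q.2))⟩
          invFun := fun y => ⟨⟨y, hPQ (hSP y.2)⟩, MonoidHom.mem_ker.2 (Subtype.ext ((hσS _).2 y.2))⟩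
          left_inv := fun q => rfl
          right_inv := fun y => rfl }
    have h24 := card_preimage_hom f' (MonoidHom.subgroupMap_surjective _ _) {k | k ^ 2 = 1}
    rw [hf'k, show Nat.card ↥({k | k ^ 2 = 1} : Set (Q.map σ)) = 12 from h12] at h24
    have hiff : ∀ q : Q, f' q ^ 2 = 1 ↔ ((q : Y) ^ 2 = 1 ∨ (q : Y) ^ 2 = x) := by
      intro q
      rw [← map_pow]
      constructor
      · intro h
        have := (hσS _).1 (congrArg Subtype.val h)
        obtain ⟨k, hk⟩ := Subgroup.mem_zpowers_iff.1 this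
        rcases CfsgLib.PGroups.NoSCNThree.zpow_of_sq (hexp x hx) k with h' | h'
        · exact Or.inl (hk.symm.trans h')
        · exact Or.inr (hk.symm.trans h')
      · rintro (h | h)
        · exact Subtype.ext ((hσS _).2 (by rw [SubmonoidClass.coe_pow, h]; exact one_mem _))
        · exact Subtype.ext ((hσS _).2 (by rw [SubmonoidClass.coe_pow, h]; exact mem_zpowers x))
    rw [Nat.card_coe_set_eq] at h24
    show c 1 + c x = 2 * 12
    rw [← h24, hc]
    simp only
    rw [← Nat.card_coe_set_eq, ← Nat.card_sum]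
    refine Nat.card_congr (Equiv.trans ?_ (Equiv.subtypeEquivRight fun q => (hiff q).symm))
    exact (subtypeOrEquiv (fun q : Q => (q : Y) ^ 2 = 1) (fun q => (q : Y) ^ 2 = x)
      (Pi.disjoint_iff.2 fun q => Prop.disjoint_iff.2 (by
        rintro ⟨h1, h2⟩; exact hx1 (h2.symm.trans h1)))).symm
  letI := Fintype.ofFinite Q
  letI := Fintype.ofFinite P
  have hsum : ∑ x : P, c x = 64 := by
    rw [← hQ64, ← Nat.card_sigma]
    exact Nat.card_congr
      { toFun := fun s => s.2.1
        invFun := fun q => ⟨⟨_, hsq q q.2⟩, q, rfl⟩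
        left_inv := by
          rintro ⟨⟨x, hx⟩, q, h⟩
          obtain rfl : (q : Y) ^ 2 = x := h
          rfl
        right_inv := fun q => rfl }
  have hsum' : ∑ x ∈ (Finset.univ : Finset P).erase 1, c x = 3 * (24 - c 1) := by
    rw [Finset.sum_congr rfl (g := fun _ => 24 - c 1) (fun x hx => by
      have := hc24 x x.2 fun h => Finset.ne_of_mem_erase hx (Subtype.ext h)
      omega), Finset.sum_const, Finset.card_erase_of_mem (Finset.mem_univ _), Finset.card_univ,
      ← Nat.card_eq_fintype_card, hP4, smul_eq_mul]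
  rw [← Finset.add_sum_erase _ _ (Finset.mem_univ (1 : P)), hsum'] at hsum
  have hsum'' : c 1 + 3 * (24 - c 1) = 64 := hsum
  have hc1 : c 1 = 4 := by
    obtain ⟨w, hw, hw1⟩ : ∃ w ∈ P, w ≠ 1 := (Subgroup.bot_or_exists_ne_one P).resolve_left
      fun h => by rw [h, Subgroup.card_bot] at hP4; omega
    have := hc24 w hw hw1
    omega
  have hroots : ∀ q : Q, (q : Y) ^ 2 = 1 → (q : Y) ∈ P := by
    have hbij : Function.Bijective (fun x : P => (⟨⟨x, hPQ x.2⟩, hexp x x.2⟩ :
        {q : Q // (q : Y) ^ 2 = 1})) :=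
      (Nat.bijective_iff_injective_and_card _).2
        ⟨fun a b h => Subtype.ext (congrArg (fun z : {q : Q // (q : Y) ^ 2 = 1} => (z.1 : Y)) h :),
          hP4.trans hc1.symm⟩
    intro q hq
    obtain ⟨x, hx⟩ := hbij.2 ⟨q, hq⟩
    exact (congrArg (fun z : {q : Q // (q : Y) ^ 2 = 1} => (z.1 : Y)) hx : (x : Y) = q) ▸ x.2
  -- the squaring map on the top layer
  have hsqconst : ∀ q q' : Q, f q = f q' → (q : Y) ^ 2 = (q' : Y) ^ 2 := by
    intro q q' h
    have hm : (q : Y)⁻¹ * q' ∈ P := QuotientGroup.eq.1 (congrArg Subtype.val h :)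
    calc (q : Y) ^ 2 = (q : Y) ^ 2 * ((q : Y)⁻¹ * q') ^ 2 := by rw [hexp _ hm, mul_one]
      _ = ((q : Y) * ((q : Y)⁻¹ * q')) ^ 2 := (Commute.mul_pow (hcen _ q.2 _ hm) 2).symm
      _ = (q' : Y) ^ 2 := by rw [mul_inv_cancel_left]
  set sq' : Q.map ρ → Y := fun k => ((Function.surjInv hfs k : Q) : Y) ^ 2 with hsq'
  have hsqf : ∀ q : Q, sq' (f q) = (q : Y) ^ 2 := fun q =>
    hsqconst _ _ (Function.surjInv_eq hfs _)
  have hB : ∀ x ∈ P, x ≠ 1 → Nat.card {k : Q.map ρ // sq' k = x} = 5 := by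
    intro x hx hx1
    have h := card_preimage_hom f hfs {k | sq' k = x}
    have he : Nat.card ↥(f ⁻¹' {k | sq' k = x}) = c x :=
      Nat.card_congr (Equiv.subtypeEquivRight fun q => by
        show sq' (f q) = x ↔ _
        rw [hsqf])
    rw [he, hfker] at h
    have := hc24 x hx hx1
    change _ = 4 * Nat.card {k : Q.map ρ // sq' k = x} at h
    omega
  obtain ⟨g, hg3, hgQ3, hgQ⟩ := exists_lift D (by norm_num) D.three D.g_notMem
  set φ : MulAut (Q.map ρ) := MulAut.conjNormal (ρ g) with hφ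
  have hφ3 : φ ^ 3 = 1 := by rw [hφ, ← map_pow, ← map_pow, hg3, map_one, map_one]
  have hφsq : ∀ k, sq' (φ k) = sq' k := by
    intro k
    obtain ⟨q, rfl⟩ := hfs k
    have : φ (f q) = f ⟨g * q * g⁻¹, (inferInstance : Q.Normal).conj_mem _ q.2 g⟩ := by
      apply Subtype.ext
      rw [hφ, MulAut.conjNormal_apply]
      show ρ g * ρ q * (ρ g)⁻¹ = ρ (g * q * g⁻¹)
      rw [map_mul, map_mul, map_inv]
    rw [this, hsqf, hsqf, conj_pow, hPc g _ (hsq q q.2), mul_inv_cancel_right]
  set F : Subgroup (Q.map ρ) := φ.toMonoidHom.eqLocus (MonoidHom.id _) with hF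
  have hFm : ∀ k, k ∈ F ↔ φ k = k := fun k => Iff.rfl
  have hfix : ∀ x : P, x ≠ 1 → Nat.card {k : Q.map ρ // sq' k = x ∧ φ k = k} % 3 = 2 ∧
      Nat.card {k : Q.map ρ // sq' k = x ∧ φ k = k} ≤ 5 := by
    intro x hx
    have hx1 : (x : Y) ≠ 1 := fun h => hx (Subtype.ext h)
    have hm := card_fixed_aut_modEq (p := 3) hφ3 (P := fun k => sq' k = x)
      fun k hk => (hφsq k).trans hk
    have h5 := hB x x.2 hx1
    refine ⟨by rw [h5] at hm; exact hm, h5 ▸ ?_⟩
    exact Nat.card_le_card_of_injective (fun k => (⟨k.1, k.2.1⟩ : {k : Q.map ρ // sq' k = x}))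
      fun a b h => Subtype.ext (congrArg Subtype.val h :)
  have hsum2 : Nat.card F = ∑ x : P, Nat.card {k : Q.map ρ // sq' k = x ∧ φ k = k} := by
    rw [← Nat.card_sigma]
    exact Nat.card_congr
      { toFun := fun k => ⟨⟨_, hsq _ (Function.surjInv hfs k.1).2⟩, k.1, rfl, (hFm _).1 k.2⟩
        invFun := fun s => ⟨s.2.1, (hFm _).2 s.2.2.2⟩
        left_inv := fun k => rfl
        right_inv := by
          rintro ⟨⟨x, hx⟩, k, h, hk⟩
          obtain rfl : sq' k = x := h
          rfl }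
  have hone : Nat.card {k : Q.map ρ // sq' k = ((1 : P) : Y) ∧ φ k = k} = 1 := by
    refine Nat.card_eq_one_iff_unique.2 ⟨⟨fun a b => Subtype.ext ?_⟩, ⟨⟨1, ?_, map_one φ⟩⟩⟩
    · have key : ∀ k : Q.map ρ, sq' k = 1 → k = 1 := fun k hk => by
        obtain ⟨q, rfl⟩ := hfs k
        rw [hsqf] at hk
        exact Subtype.ext ((hρP _).2 (hroots q hk))
      rw [key _ a.2.1, key _ b.2.1]
    · rw [← map_one f, hsqf]
      simp
  rw [← Finset.add_sum_erase _ _ (Finset.mem_univ (1 : P)), hone] at hsum2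
  have hK2 : IsPGroup 2 (Q.map ρ) := fun k => ⟨1, Subtype.ext (hKexp k k.2)⟩
  obtain ⟨j, hj⟩ := IsPGroup.iff_card.1 (hK2.to_subgroup F)
  have hj4 : j ≤ 4 := (Nat.pow_le_pow_iff_right (by norm_num : 1 < 2)).1
    ((hj ▸ Subgroup.card_le_card_group F).trans (by rw [h16]))
  have hlo : (∑ x ∈ (Finset.univ : Finset P).erase 1,
      Nat.card {k : Q.map ρ // sq' k = x ∧ φ k = k}) % 3 = 0 ∧
      6 ≤ ∑ x ∈ (Finset.univ : Finset P).erase 1,
        Nat.card {k : Q.map ρ // sq' k = x ∧ φ k = k} := by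
    have hcard : ((Finset.univ : Finset P).erase 1).card = 3 := by
      rw [Finset.card_erase_of_mem (Finset.mem_univ _), Finset.card_univ,
        ← Nat.card_eq_fintype_card, hP4]
    constructor
    · rw [Finset.sum_nat_mod, Finset.sum_congr rfl (g := fun _ => 2)
        (fun x hx => (hfix x (Finset.ne_of_mem_erase hx)).1), Finset.sum_const, hcard]
      rfl
    · calc 6 = ∑ x ∈ (Finset.univ : Finset P).erase 1, 2 := by
            rw [Finset.sum_const, hcard]; rfl
        _ ≤ _ := Finset.sum_le_sum fun x hx => by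
            have := (hfix x (Finset.ne_of_mem_erase hx)).1; omega
  rw [hj] at hsum2
  have hj' : j = 4 := by
    obtain ⟨hlo1, hlo2⟩ := hlo
    generalize (∑ x ∈ (Finset.univ : Finset P).erase 1,
      Nat.card {k : Q.map ρ // sq' k = x ∧ φ k = k}) = T at hlo1 hlo2 hsum2
    interval_cases j <;> omega
  refine hgQ ?_
  have hFtop : F = ⊤ := Subgroup.eq_top_of_card_eq _ (by rw [hj, hj', h16]; norm_num)
  obtain ⟨q, hq, he⟩ := hfaith (ρ g) fun k hk => by
    have := congrArg Subtype.val ((hFm _).1 (hFtop ▸ Subgroup.mem_top (⟨k, hk⟩ : Q.map ρ)))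
    rwa [hφ, MulAut.conjNormal_apply, mul_inv_eq_iff_eq_mul] at this
  have := mul_mem hq (hPQ (QuotientGroup.eq.1 he))
  rwa [mul_inv_cancel_left] at this

/-- The extraspecial group of minus type is `Q₈ ∘ D₈`. -/
theorem quaternion_dihedral {E : Type*} [Group E] [Finite E] (hes : Cfsg.IsExtraspecial 2 E)
    (h32 : Nat.card E = 32) {γ : MulAut E} (hγ : γ ^ 5 = 1)
    (hfix : ∀ q, γ q = q → q ∈ center E) :
    ∃ A B : Subgroup E, Nonempty (↥A ≃* QuaternionGroup 2) ∧ Nonempty (↥B ≃* DihedralGroup 4) ∧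
      (∀ a ∈ A, ∀ b ∈ B, a * b = b * a) ∧ A ⊔ B = ⊤ ∧ A ⊓ B = center E := by
  classical
  haveI : Fact (Nat.Prime 2) := ⟨Nat.prime_two⟩
  obtain ⟨z, ES⟩ := exists_ESTwo hes
  have h12 := ES.card_sq_one h32 hγ hfix
  have hcz : center E = zpowers z := by
    refine le_antisymm (fun x hx => ?_) (zpowers_le.2 ES.mem_center)
    rcases (ES.center_iff x).1 hx with rfl | rfl
    exacts [one_mem _, mem_zpowers _]
  have hzord : orderOf z = 2 := orderOf_eq_prime (by rw [pow_two]; exact ES.mul_self) ES.ne_one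
  obtain ⟨u, hu, huc⟩ : ∃ u : E, u ^ 2 = 1 ∧ u ∉ center E := by
    by_contra h
    push Not at h
    have := Nat.card_le_card_of_injective
      (fun q : {q : E // q ^ 2 = 1} => (⟨q.1, h q.1 q.2⟩ : center E))
      fun a b hab => Subtype.ext (congrArg Subtype.val hab :)
    rw [h12, hes.2] at this
    omega
  obtain ⟨v, hv, hvu⟩ : ∃ v : E, v ^ 2 = 1 ∧ v * u ≠ u * v := by
    by_contra h
    push Not at h
    have hsub : {q : E | q ^ 2 = 1} ⊆ ({1, z, u, u * z} : Set E) := fun q hq =>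
      ES.commuting_pair h32 hγ hfix hu huc hq (h q hq)
    have := (Set.ncard_le_ncard hsub).trans
      ((Set.ncard_insert_le _ _).trans (Nat.add_le_add_right ((Set.ncard_insert_le _ _).trans
        (Nat.add_le_add_right ((Set.ncard_insert_le _ _).trans
          (Nat.add_le_add_right (Set.ncard_singleton _).le 1)) 1)) 1))
    rw [← Nat.card_coe_set_eq, show Nat.card ↥{q : E | q ^ 2 = 1} = 12 from h12] at this
    omega
  have huu : u * u = 1 := by rw [← pow_two]; exact hu
  have hvv : v * v = 1 := by rw [← pow_two]; exact hv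
  have huv : ⁅u, v⁆ = z := by
    have hc := CfsgLib.PGroups.Extraspecial.commutator_mem_center hes u v
    rcases (ES.center_iff _).1 hc with h | h
    · exact absurd (commutatorElement_eq_one_iff_mul_comm.1 h).symm hvu
    · exact h
  have S : CfsgLib.PGroups.IsSympGroup 2 z 2 :=
    ⟨h32.trans (by norm_num), hzord, hcz,
      fun a b => hcz ▸ CfsgLib.PGroups.Extraspecial.commutator_mem_center hes a b,
      fun a => hcz ▸ CfsgLib.PGroups.Extraspecial.pow_mem_center hes a⟩
  obtain ⟨-, T⟩ := S.sub huv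
  set A := centralizer ({u, v} : Set E) with hA
  have hA8 : Nat.card A = 8 := T.card_eq.trans (by norm_num)
  have hAc : ∀ a ∈ A, u * a = a * u ∧ v * a = a * v := fun a ha => ⟨ha u (by simp), ha v (by simp)⟩
  set zA : A := ⟨z, S.z_mem_pair u v⟩ with hzA
  have hinvA : ∀ a : A, a ^ 2 = 1 → a ∈ zpowers zA := by
    intro a ha
    have ha' : (a : E) ^ 2 = 1 := congrArg Subtype.val ha
    rcases ES.commuting_pair h32 hγ hfix hu huc ha' (hAc a a.2).1.symm with h | h | h | h
    · rw [Subtype.ext h (a1 := a) (a2 := 1)]; exact one_mem _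
    · rw [Subtype.ext h (a1 := a) (a2 := zA)]; exact mem_zpowers _
    · exact absurd (h ▸ (hAc a a.2).2) hvu
    · refine absurd ?_ hvu
      have := (hAc a a.2).2
      rw [h, ← mul_assoc, mul_assoc u z v, ← ES.mul_comm_z v, ← mul_assoc] at this
      exact mul_right_cancel this
  have hAp : IsPGroup 2 A := IsPGroup.of_card (n := 3) (by rw [hA8]; norm_num)
  have hAna : ¬ IsMulCommutative A := by
    intro hab
    have h1 : center A = ⊤ := eq_top_iff.2 fun a _ => Subgroup.mem_center_iff.2 fun b =>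
      hab.is_comm.comm b a
    have h2 : Nat.card (center A) = 8 := by rw [h1, Subgroup.card_top, hA8]
    rw [T.center_eq, Nat.card_zpowers, T.z_ord] at h2
    omega
  have hzA2 : zA ^ 2 = 1 := Subtype.ext (by
    show z ^ 2 = 1
    rw [pow_two]; exact ES.mul_self)
  have hAQ : Nonempty (↥A ≃* QuaternionGroup 2) := by
    rcases CfsgLib.PGroups.isCyclic_or_quaternion_of_unique hAp hzA2 hinvA with h | ⟨-, n, -, ⟨e⟩⟩
    · haveI := h
      exact absurd (inferInstance : IsMulCommutative A) hAna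
    · haveI : NeZero (2 ^ n) := ⟨by positivity⟩
      have hcard := Nat.card_congr e.toEquiv
      rw [hA8, Nat.card_eq_fintype_card, QuaternionGroup.card] at hcard
      have hn : 2 ^ n = 2 := by omega
      have hn1 : n = 1 := Nat.pow_right_injective le_rfl (hn.trans (pow_one 2).symm)
      subst hn1
      exact ⟨e⟩
  set B := centralizer (A : Set E) with hB
  have hcA : center E ≤ A := center_le_centralizer _
  have hB8 : Nat.card B = 8 := by
    have h : Nat.card A * Nat.card B = Nat.card E * 2 :=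
      CfsgLib.PGroups.Extraspecial.card_mul_card_centralizer hes hcA
    rw [hA8, h32] at h
    omega
  have huB : u ∈ B := fun a ha => ((hAc a ha).1).symm
  have hvB : v ∈ B := fun a ha => ((hAc a ha).2).symm
  have huv2 : (u * v) ^ 2 = z := by
    rw [← huv, commutatorElement_def, inv_eq_of_mul_eq_one_right huu,
      inv_eq_of_mul_eq_one_right hvv, pow_two, ← mul_assoc]
  have hord : orderOf (u * v) = 4 :=
    orderOf_eq_prime_pow (p := 2) (n := 1) (by rw [pow_one, huv2]; exact ES.ne_one)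
      (by rw [pow_succ, pow_one, pow_mul, huv2, pow_two]; exact ES.mul_self)
  have hBD : Nonempty (↥B ≃* DihedralGroup 4) := by
    refine CfsgLib.Classical.nonempty_mulEquiv_dihedralGroup (x := ⟨u * v, mul_mem huB hvB⟩)
      (s := ⟨u, huB⟩) (by norm_num) (by rw [← Subgroup.orderOf_coe]; exact hord) (Subtype.ext huu)
      (Subtype.ext ?_) ?_ (hB8.trans (by norm_num))
    · show u * (u * v) * u⁻¹ = (u * v)⁻¹
      rw [mul_inv_rev, inv_eq_of_mul_eq_one_right huu, inv_eq_of_mul_eq_one_right hvv, ← mul_assoc,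
        huu, one_mul]
    · intro h
      obtain ⟨k, hk⟩ := Subgroup.mem_zpowers_iff.1 h
      have hk' : (u * v) ^ k = u := congrArg Subtype.val hk
      have hc : Commute u (u * v) := by
        have := (Commute.refl (u * v)).zpow_left k
        rwa [hk'] at this
      refine hvu (mul_left_cancel (a := u) ?_)
      rw [← mul_assoc]
      exact hc.eq.symm
  refine ⟨A, B, hAQ, hBD, fun a ha b hb => hb a ha, ?_, ?_⟩
  · rw [eq_top_iff]
    intro g _
    obtain ⟨⟨⟨k, l⟩, a⟩, rfl⟩ := (S.pair_decomp huv).2 g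
    exact mul_mem (mul_mem (mem_sup_right (pow_mem huB _)) (mem_sup_right (pow_mem hvB _)))
      (mem_sup_left a.2)
  · refine le_antisymm (fun x hx => ?_) (le_inf hcA (center_le_centralizer _))
    have hxc : (⟨x, hx.1⟩ : A) ∈ center A :=
      Subgroup.mem_center_iff.2 fun a => Subtype.ext (hx.2 a a.2)
    rw [T.center_eq] at hxc
    obtain ⟨k, hk⟩ := Subgroup.mem_zpowers_iff.1 hxc
    rw [hcz]
    exact Subgroup.mem_zpowers_iff.2 ⟨k, congrArg Subtype.val hk⟩

end CfsgLib.Small.ConstrainedFive
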