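import Cfsg.Agent.Lib.Small.ConstrainedFive.Forms

/-!
# The 2-core below an alternating group of degree five
-/

set_option autoImplicit false
set_option linter.unusedSectionVars false
set_option linter.style.haveILetI false

namespace CfsgLib.Small.ConstrainedFive

open Subgroup
open scoped commutatorElement

variable {Y : Type*} [Group Y] [Finite Y] {Q : Subgroup Y}

/-- The Frattini subgroup of `Q` inside `Y`. -/
def frat (Q : Subgroup Y) : Subgroup Y := (frattini Q).map Q.subtype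

theorem frat_le : frat Q ≤ Q := Subgroup.map_subtype_le _

theorem frat_normal (D : Five Y Q) : (frat Q).Normal := by
  haveI := D.normal
  unfold frat
  infer_instance

theorem sq_mem_frat (D : Five Y Q) {x : Y} (hx : x ∈ Q) : x ^ 2 ∈ frat Q := by
  haveI : Fact (Nat.Prime 2) := ⟨Nat.prime_two⟩
  exact ⟨⟨x, hx⟩ ^ 2, CfsgLib.PGroups.pow_mem_frattini D.two _, rfl⟩

theorem frat_le_of_squares (D : Five Y Q) (N : Subgroup Y) [N.Normal]
    (h : ∀ x ∈ Q, x ^ 2 ∈ N) : frat Q ≤ N := by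
  rintro _ ⟨q, hq, rfl⟩
  have hle := CfsgLib.PGroups.NoSCNThree.frattini_le_of_squares D.two (N := N.subgroupOf Q)
    fun q => Subgroup.mem_subgroupOf.2 (h q q.2)
  exact Subgroup.mem_subgroupOf.1 (hle hq)

/-- A minimal normal subgroup inside `Q` is central in `Q`, elementary, and of order 2 or a
faithful module of order 16. -/
theorem bottom_layer (D : Five Y Q) (P : Subgroup Y) [P.Normal] (hPQ : P ≤ Q) (hne : P ≠ ⊥)
    (hmin : ∀ U : Subgroup Y, U.Normal → U ≤ P → U = ⊥ ∨ U = P) :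
    (∀ q ∈ Q, ∀ x ∈ P, q * x = x * q) ∧ (∀ x ∈ P, x ^ 2 = 1) ∧
      (Nat.card P = 2 ∨ (Nat.card P = 16 ∧ ∃ y : Y, ∃ x ∈ P, y * x ≠ x * y)) := by
  haveI : Fact (Nat.Prime 2) := ⟨Nat.prime_two⟩
  haveI := D.normal
  obtain ⟨w, hw, hw1⟩ := (Subgroup.bot_or_exists_ne_one P).resolve_left hne
  -- central in `Q`
  set Zc := (center Q).map Q.subtype with hZc
  haveI : Zc.Normal := inferInstance
  have hPZ : P ⊓ Zc = P := by
    refine (hmin _ inferInstance inf_le_left).resolve_left fun h => ?_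
    have hP' : P.subgroupOf Q ≠ ⊥ := fun e => by
      have h1 : (⟨w, hPQ hw⟩ : Q) ∈ P.subgroupOf Q := Subgroup.mem_subgroupOf.2 hw
      rw [e, Subgroup.mem_bot] at h1
      exact hw1 (congrArg (fun q : Q => (q : Y)) h1)
    refine CfsgLib.PGroups.inf_center_ne_bot D.two hP' (Subgroup.eq_bot_iff_forall _ |>.2 ?_)
    intro q hq
    refine Subtype.ext (Subgroup.mem_bot.1 (h ▸ ?_ : (q : Y) ∈ (⊥ : Subgroup Y)))
    exact Subgroup.mem_inf.2 ⟨Subgroup.mem_subgroupOf.1 hq.1, ⟨q, hq.2, rfl⟩⟩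
  have hcen : ∀ q ∈ Q, ∀ x ∈ P, q * x = x * q := by
    intro q hq x hx
    obtain ⟨c, hc, rfl⟩ := ((inf_eq_left.1 hPZ) hx : x ∈ Zc)
    exact congrArg Subtype.val (Subgroup.mem_center_iff.1 hc ⟨q, hq⟩)
  have hab : ∀ a ∈ P, ∀ b ∈ P, a * b = b * a := fun a ha b hb => hcen a (hPQ ha) b hb
  -- elementary
  let U : Subgroup Y :=
    { carrier := {x | x ∈ P ∧ x ^ 2 = 1}
      one_mem' := ⟨one_mem _, one_pow 2⟩
      mul_mem' := fun {a b} ha hb => ⟨mul_mem ha.1 hb.1, by
        rw [Commute.mul_pow (hab a ha.1 b hb.1), ha.2, hb.2, one_mul]⟩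
      inv_mem' := fun {a} ha => ⟨inv_mem ha.1, by rw [inv_pow, ha.2, inv_one]⟩ }
  have hU : U.Normal := ⟨fun n hn y => ⟨(inferInstance : P.Normal).conj_mem n hn.1 y, by
    rw [conj_pow, hn.2, mul_one, mul_inv_cancel]⟩⟩
  have hUP : U = P := by
    refine (hmin U hU fun x hx => hx.1).resolve_left fun h => ?_
    have hP2 : IsPGroup 2 P := D.two.of_injective (Subgroup.inclusion hPQ)
      (Subgroup.inclusion_injective hPQ)
    have hdvd : 2 ∣ Nat.card P := by
      obtain ⟨n, hn⟩ := IsPGroup.iff_card.1 hP2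
      rw [hn]
      refine dvd_pow_self 2 fun h0 => hne (Subgroup.card_eq_one.1 (by rw [hn, h0, pow_zero]))
    obtain ⟨x, hx⟩ := exists_prime_orderOf_dvd_card' 2 hdvd
    have hxU : (x : Y) ∈ U := ⟨x.2, by rw [← SubmonoidClass.coe_pow, ← hx, pow_orderOf_eq_one]; rfl⟩
    rw [h, Subgroup.mem_bot] at hxU
    rw [show x = 1 from Subtype.ext hxU, orderOf_one] at hx
    omega
  have hexp : ∀ x ∈ P, x ^ 2 = 1 := fun x hx => (hUP.symm ▸ hx : x ∈ U).2
  refine ⟨hcen, hexp, ?_⟩
  by_cases htriv : ∀ y : Y, ∀ x ∈ P, y * x = x * y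
  · left
    haveI : (zpowers w).Normal := ⟨fun n hn y => by
      rw [htriv y n (zpowers_le.2 hw hn), mul_inv_cancel_right]; exact hn⟩
    have heq := (hmin _ inferInstance (zpowers_le.2 hw)).resolve_left fun h =>
      hw1 (Subgroup.mem_bot.1 (h ▸ mem_zpowers w))
    rw [← heq, Nat.card_zpowers, orderOf_eq_prime (hexp w hw) hw1]
  · right
    refine ⟨((D.dichotomy P hab hexp hcen).resolve_left htriv).1, ?_⟩
    push Not at htriv
    exact htriv

/-- Minimality of `P/S` from maximality of `S`. -/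
theorem map_minimal {S P : Subgroup Y} [S.Normal] (hSP : S < P)
    (hmax : ∀ U : Subgroup Y, U.Normal → U < P → S ≤ U → U = S) :
    P.map (QuotientGroup.mk' S) ≠ ⊥ ∧
      ∀ U : Subgroup (Y ⧸ S), U.Normal → U ≤ P.map (QuotientGroup.mk' S) →
        U = ⊥ ∨ U = P.map (QuotientGroup.mk' S) := by
  refine ⟨fun h => ?_, fun U hU hle => ?_⟩
  · rw [Subgroup.map_eq_bot_iff, QuotientGroup.ker_mk'] at h
    exact hSP.not_ge h
  · set π := QuotientGroup.mk' S
    have hsurj := QuotientGroup.mk'_surjective S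
    have hle' : U.comap π ≤ P := by
      refine (Subgroup.comap_mono hle).trans (le_of_eq ?_)
      rw [Subgroup.comap_map_eq, QuotientGroup.ker_mk', sup_eq_left.2 hSP.le]
    have hSU : S ≤ U.comap π := fun s hs => by
      rw [Subgroup.mem_comap, show π s = 1 from (QuotientGroup.eq_one_iff s).2 hs]
      exact one_mem _
    rcases eq_or_lt_of_le hle' with h | h
    · right; rw [← Subgroup.map_comap_eq_self_of_surjective hsurj U, h]
    · left
      rw [← Subgroup.map_comap_eq_self_of_surjective hsurj U, hmax _ inferInstance h hSU]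
      exact QuotientGroup.map_mk'_self S

theorem main (D : Five Y Q) (hV : ∃ y : Y, ∃ x ∈ Q, ⁅y, x⁆ ∉ frat Q) :
    (Cfsg.IsElementaryAbelian 2 Q ∧ Nat.card Q = 16) ∨
      (Nat.card Q = 32 ∧ ∃ A B : Subgroup Q,
        Nonempty (↥A ≃* QuaternionGroup 2) ∧ Nonempty (↥B ≃* DihedralGroup 4) ∧
          (∀ a ∈ A, ∀ b ∈ B, a * b = b * a) ∧ A ⊔ B = ⊤ ∧ A ⊓ B = center Q) := by
  classical
  haveI : Fact (Nat.Prime 2) := ⟨Nat.prime_two⟩
  haveI := D.normal
  haveI := frat_normal D
  by_cases hΦ : frat Q = ⊥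
  · left
    have hexp : ∀ x ∈ Q, x ^ 2 = 1 := fun x hx => Subgroup.mem_bot.1 (hΦ ▸ sq_mem_frat D hx)
    have hab : ∀ a ∈ Q, ∀ b ∈ Q, a * b = b * a := fun a ha b hb => congrArg Subtype.val
      (CfsgLib.PGroups.NoSCNThree.comm_of_sq_one (Q := Q) (fun q => Subtype.ext (hexp q q.2))
        ⟨a, ha⟩ ⟨b, hb⟩)
    refine ⟨⟨⟨⟨fun a b => Subtype.ext (hab a a.2 b b.2)⟩⟩, hexp⟩,
      ((D.dichotomy Q hab hexp hab).resolve_left fun h => ?_).1⟩
    obtain ⟨y, x, hx, hyx⟩ := hV
    exact hyx (by rw [commutatorElement_eq_one_iff_mul_comm.2 (h y x hx)]; exact one_mem _)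
  right
  obtain ⟨S, hS⟩ := Set.Finite.exists_maximal
    (s := {S : Subgroup Y | S.Normal ∧ S < frat Q}) (Set.toFinite _)
    ⟨⊥, inferInstance, bot_lt_iff_ne_bot.2 hΦ⟩
  obtain ⟨hSn, hSlt⟩ := hS.1
  haveI := hSn
  have hSQ : S ≤ Q := hSlt.le.trans frat_le
  set π := QuotientGroup.mk' S with hπ
  haveI : ((frat Q).map π).Normal :=
    Subgroup.Normal.map inferInstance π (QuotientGroup.mk'_surjective S)
  obtain ⟨hFne, hFmin⟩ := map_minimal hSlt fun U hU hlt hle =>
    le_antisymm (hS.2 ⟨hU, hlt⟩ hle) hle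
  obtain ⟨hFcen, hFexp, hFcard⟩ :=
    bottom_layer (D.quot S hSQ) ((frat Q).map π) (Subgroup.map_mono frat_le) hFne hFmin
  have hπS : ∀ x : Y, π x = 1 ↔ x ∈ S := fun x => QuotientGroup.eq_one_iff x
  have hsqF : ∀ x ∈ Q.map π, x ^ 2 ∈ (frat Q).map π := by
    rintro _ ⟨x, hx, rfl⟩
    rw [← map_pow]; exact Subgroup.mem_map_of_mem π (sq_mem_frat D hx)
  have hVF : ∃ y : Y ⧸ S, ∃ x ∈ Q.map π, ⁅y, x⁆ ∉ (frat Q).map π := by
    obtain ⟨y, x, hx, hyx⟩ := hV
    refine ⟨π y, π x, Subgroup.mem_map_of_mem π hx, fun h => hyx ?_⟩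
    rw [← map_commutatorElement] at h
    obtain ⟨w, hw, he⟩ := h
    have := mul_mem hw (hSlt.le (QuotientGroup.eq.1 he))
    rwa [mul_inv_cancel_left] at this
  have hF2 : Nat.card ((frat Q).map π) = 2 := by
    refine hFcard.resolve_right fun h => ?_
    exact two_layers (D.quot S hSQ) ((frat Q).map π) (Subgroup.map_mono frat_le) hsqF hFexp hFcen
      hVF h.2
  have hne : ∃ x ∈ Q.map π, x ^ 2 ≠ 1 := by
    by_contra h
    push Not at h
    refine hSlt.not_ge (frat_le_of_squares D S fun x hx => (hπS _).1 ?_)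
    rw [map_pow]; exact h _ (Subgroup.mem_map_of_mem π hx)
  obtain ⟨hes1, h32, -⟩ := one_layer (D.quot S hSQ) ((frat Q).map π) (Subgroup.map_mono frat_le)
    hF2 hsqF hne hVF
  by_cases hS1 : S = ⊥
  · subst hS1
    have hΦ2 : Nat.card (frat Q) = 2 := by
      rw [← hF2, hπ]
      refine Nat.card_congr ((frat Q).equivMapOfInjective _ ?_).toEquiv
      rw [← MonoidHom.ker_eq_bot_iff, QuotientGroup.ker_mk']
    obtain ⟨hes, hQ32, γ, hγ, hfix⟩ := one_layer D (frat Q) frat_le hΦ2 (fun x hx => sq_mem_frat D hx)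
      (by
        by_contra h
        push Not at h
        exact hΦ (le_bot_iff.1 (frat_le_of_squares D ⊥ fun x hx => Subgroup.mem_bot.2 (h x hx))))
      hV
    exact ⟨hQ32, quaternion_dihedral hes hQ32 hγ hfix⟩
  exfalso
  obtain ⟨T, hT⟩ := Set.Finite.exists_maximal
    (s := {T : Subgroup Y | T.Normal ∧ T < S}) (Set.toFinite _)
    ⟨⊥, inferInstance, bot_lt_iff_ne_bot.2 hS1⟩
  obtain ⟨hTn, hTlt⟩ := hT.1
  haveI := hTn
  have hTQ : T ≤ Q := hTlt.le.trans hSQ
  set τ := QuotientGroup.mk' T with hτ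
  have hτT : ∀ x : Y, τ x = 1 ↔ x ∈ T := fun x => QuotientGroup.eq_one_iff x
  haveI : (S.map τ).Normal := Subgroup.Normal.map inferInstance τ (QuotientGroup.mk'_surjective T)
  haveI : ((frat Q).map τ).Normal :=
    Subgroup.Normal.map inferInstance τ (QuotientGroup.mk'_surjective T)
  obtain ⟨hLne, hLmin⟩ := map_minimal hTlt fun U hU hlt hle =>
    le_antisymm (hT.2 ⟨hU, hlt⟩ hle) hle
  obtain ⟨hLcen, hLexp, hLcard⟩ :=
    bottom_layer (D.quot T hTQ) (S.map τ) (Subgroup.map_mono hSQ) hLne hLmin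
  set L := S.map τ with hL
  set P := (frat Q).map τ with hP
  have hLP : L ≤ P := Subgroup.map_mono hSlt.le
  have hPQ : P ≤ Q.map τ := Subgroup.map_mono frat_le
  have hPL : Nat.card P = 2 * Nat.card L := by
    have h1 : Nat.card ((frat Q).map π) = S.relIndex (frat Q) := by
      rw [← Subgroup.relIndex_ker (frat Q) π, QuotientGroup.ker_mk']
    have h2 : L.relIndex P = S.relIndex (frat Q) := by
      rw [hL, hP, Subgroup.relIndex_map_map, QuotientGroup.ker_mk', sup_eq_left.2 hTlt.le,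
        sup_eq_left.2 (hTlt.le.trans hSlt.le)]
    have h3 := Subgroup.card_mul_index (L.subgroupOf P)
    rw [Nat.card_congr (Subgroup.subgroupOfEquivOfLe hLP).toEquiv,
      show (L.subgroupOf P).index = L.relIndex P from rfl, h2, ← h1, hF2] at h3
    omega
  obtain ⟨z, hz, hzL⟩ := SetLike.exists_of_lt (lt_of_le_of_ne hLP (fun h => by
    rw [← h] at hPL
    have : 0 < Nat.card L := Nat.card_pos
    omega))
  have hPsup : P = L ⊔ zpowers z := by
    refine (Subgroup.eq_of_le_of_card_ge (sup_le hLP (zpowers_le.2 hz)) ?_).symm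
    have hdvd := Subgroup.card_dvd_of_le (le_sup_left : L ≤ L ⊔ zpowers z)
    obtain ⟨k, hk⟩ := hdvd
    have hk1 : k ≠ 1 := fun h1 => hzL (by
      rw [h1, mul_one] at hk
      exact Subgroup.eq_of_le_of_card_ge (le_sup_left : L ≤ L ⊔ zpowers z) hk.le ▸
        mem_sup_right (mem_zpowers z))
    have hk0 : k ≠ 0 := fun h0 => by
      rw [h0, mul_zero] at hk
      exact (Nat.card_pos (α := (L ⊔ zpowers z : Subgroup (Y ⧸ T)))).ne' hk
    rw [hPL, hk, mul_comm 2]
    exact Nat.mul_le_mul_left _ (by omega)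
  have hPab : ∀ a ∈ P, ∀ b ∈ P, a * b = b * a := by
    have h := CfsgLib.PGroups.isMulCommutative_sup_zpowers (A := L)
      ⟨⟨fun a b => Subtype.ext (hLcen a (Subgroup.map_mono hSQ a.2) b b.2)⟩⟩
      (mem_centralizer_iff.2 fun l hl => (hLcen z (hPQ hz) l hl).symm)
    intro a ha b hb
    rw [hPsup] at ha hb
    exact congrArg Subtype.val (h.is_comm.comm ⟨a, ha⟩ ⟨b, hb⟩)
  rcases hLcard with hL2 | ⟨hL16, hLmov⟩
  swap
  · -- the bottom layer is a module: the Frattini subgroup becomes elementary of order 32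
    obtain ⟨-, hfree, -⟩ := ((D.quot T hTQ).dichotomy L
      (fun a ha b hb => hLcen a (Subgroup.map_mono hSQ ha) b hb) hLexp hLcen).resolve_left
        (by push Not; exact hLmov)
    have hsqL : ∀ x ∈ P, x ^ 2 ∈ L := by
      rintro _ ⟨x, hx, rfl⟩
      rw [← map_pow]
      refine Subgroup.mem_map_of_mem τ ((hπS _).1 ?_)
      rw [map_pow]
      exact hFexp _ (Subgroup.mem_map_of_mem π hx)
    have hexp : ∀ x ∈ P, x ^ 2 = 1 := by
      intro x hx
      have hconj : ∀ y : Y ⧸ T, ∃ l ∈ L, y * x * y⁻¹ = l * x := by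
        intro y
        obtain ⟨y, rfl⟩ := QuotientGroup.mk'_surjective T y
        obtain ⟨x, hx, rfl⟩ := hx
        refine ⟨τ ⁅y, x⁆, Subgroup.mem_map_of_mem τ ((hπS _).1 ?_), ?_⟩
        · -- the top Frattini layer is centralised
          rw [map_commutatorElement, commutatorElement_eq_one_iff_mul_comm]
          rcases (D.quot S hSQ).dichotomy ((frat Q).map π)
            (fun a ha b hb => hFcen a (Subgroup.map_mono frat_le ha) b hb) hFexp hFcen with h | h
          · exact h _ _ (Subgroup.mem_map_of_mem π hx)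
          · exact absurd h.1 (by omega)
        · rw [map_commutatorElement, commutatorElement_def, inv_mul_cancel_right]
      refine hfree _ (D.quot T hTQ).five (D.quot T hTQ).five_notMem _ (hsqL x hx) ?_
      obtain ⟨l, hl, hlx⟩ := hconj ((D.quot T hTQ).t * (D.quot T hTQ).t')
      rw [← mul_inv_eq_iff_eq_mul, ← conj_pow, hlx, Commute.mul_pow (hPab l (hLP hl) x hx),
        hLexp l hl, one_mul]
    have := card_le_sixteen (D.quot T hTQ).rank P hPab hexp
    omega
  -- two centralised layers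
  have hP4 : Nat.card P = 4 := by omega
  have hLc : ∀ y : Y ⧸ T, ∀ l ∈ L, y * l = l * y :=
    ((D.quot T hTQ).dichotomy L (fun a ha b hb => hLcen a (Subgroup.map_mono hSQ ha) b hb) hLexp
      hLcen).resolve_right fun h => by omega
  have hzconj : ∀ y : Y ⧸ T, ⁅y, z⁆ ∈ L := by
    intro y
    obtain ⟨y, rfl⟩ := QuotientGroup.mk'_surjective T y
    obtain ⟨x, hx, rfl⟩ := hz
    rw [← map_commutatorElement]
    refine Subgroup.mem_map_of_mem τ ((hπS _).1 ?_)
    rw [map_commutatorElement, commutatorElement_eq_one_iff_mul_comm]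
    rcases (D.quot S hSQ).dichotomy ((frat Q).map π)
      (fun a ha b hb => hFcen a (Subgroup.map_mono frat_le ha) b hb) hFexp hFcen with h | h
    · exact h _ _ (Subgroup.mem_map_of_mem π hx)
    · exact absurd h.1 (by omega)
  haveI : (Q.map τ).Normal := Subgroup.Normal.map inferInstance τ (QuotientGroup.mk'_surjective T)
  have hsqP : ∀ x ∈ Q.map τ, x ^ 2 ∈ P := by
    rintro _ ⟨x, hx, rfl⟩
    rw [← map_pow]; exact Subgroup.mem_map_of_mem τ (sq_mem_frat D hx)
  have hVP : ∃ y : Y ⧸ T, ∃ x ∈ Q.map τ, ⁅y, x⁆ ∉ P := by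
    obtain ⟨y, x, hx, hyx⟩ := hV
    refine ⟨τ y, τ x, Subgroup.mem_map_of_mem τ hx, fun h => hyx ?_⟩
    rw [← map_commutatorElement] at h
    obtain ⟨w, hw, he⟩ := h
    have := mul_mem hw (hTlt.le.trans hSlt.le (QuotientGroup.eq.1 he))
    rwa [mul_inv_cancel_left] at this
  -- `P` is central in `Q/T`
  have hPcenQ : ∀ q ∈ Q.map τ, ∀ x ∈ P, q * x = x * q := by
    set Cz := Q.map τ ⊓ centralizer (P : Set (Y ⧸ T)) with hCz
    haveI : Cz.Normal := inferInstance
    suffices hle : Q.map τ ≤ centralizer (P : Set (Y ⧸ T)) from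
      fun q hq x hx => (mem_centralizer_iff.1 (hle hq) x hx).symm
    set σ := QuotientGroup.mk' P with hσ
    have hPCz : P ≤ Cz := fun x hx =>
      Subgroup.mem_inf.2 ⟨hPQ hx, mem_centralizer_iff.2 fun w hw => hPab w hw x hx⟩
    haveI : (Cz.map σ).Normal := Subgroup.Normal.map inferInstance σ (QuotientGroup.mk'_surjective P)
    haveI : ((Q.map τ).map σ).Normal :=
      Subgroup.Normal.map inferInstance σ (QuotientGroup.mk'_surjective P)
    obtain ⟨hKexp, hKab⟩ := top_layer (D.quot T hTQ) P hsqP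
    have hKne : ¬ ∀ y : (Y ⧸ T) ⧸ P, ∀ k ∈ (Q.map τ).map σ, y * k = k * y := by
      intro h
      obtain ⟨y, x, hx, hyx⟩ := hVP
      refine hyx ((QuotientGroup.eq_one_iff _).1 ?_)
      show σ ⁅y, x⁆ = 1
      rw [map_commutatorElement, commutatorElement_eq_one_iff_mul_comm]
      exact h _ _ (Subgroup.mem_map_of_mem σ hx)
    rcases ((D.quot T hTQ).quot P hPQ).irreducible ((Q.map τ).map σ) hKab hKexp hKab hKne
      (Cz.map σ) (Subgroup.map_mono inf_le_left) with h | h
    · exfalso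
      let f : Q.map τ →* L := MonoidHom.mk' (fun q => ⟨⁅(q : Y ⧸ T), z⁆, hzconj q⟩) fun a b => by
        apply Subtype.ext
        show ⁅(a : Y ⧸ T) * b, z⁆ = ⁅(a : Y ⧸ T), z⁆ * ⁅(b : Y ⧸ T), z⁆
        have e : ⁅(a : Y ⧸ T) * b, z⁆ = a * ⁅(b : Y ⧸ T), z⁆ * (a : Y ⧸ T)⁻¹ * ⁅(a : Y ⧸ T), z⁆ := by
          simp only [commutatorElement_def]; group
        rw [e, hLc _ _ (hzconj b), mul_inv_cancel_right, hLc _ _ (hzconj a)]
      have hk : ∀ q : f.ker, ((q : Q.map τ) : Y ⧸ T) ∈ P := by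
        intro q
        have hq : ⁅((q : Q.map τ) : Y ⧸ T), z⁆ = 1 := congrArg Subtype.val (MonoidHom.mem_ker.1 q.2)
        have hqC : ((q : Q.map τ) : Y ⧸ T) ∈ Cz := by
          refine Subgroup.mem_inf.2 ⟨(q : Q.map τ).2, ?_⟩
          have hle : P ≤ centralizer ({((q : Q.map τ) : Y ⧸ T)} : Set _) := by
            rw [hPsup]
            exact sup_le (fun l hl => mem_centralizer_singleton_iff.2 (hLc _ l hl).symm)
              (zpowers_le.2 (mem_centralizer_singleton_iff.2
                (commutatorElement_eq_one_iff_mul_comm.1 hq).symm))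
          exact mem_centralizer_iff.2 fun w hw => mem_centralizer_singleton_iff.1 (hle hw)
        exact (QuotientGroup.eq_one_iff _).1 (Subgroup.mem_bot.1 (h ▸ Subgroup.mem_map_of_mem σ hqC))
      have hkcard : Nat.card f.ker ≤ 4 := hP4 ▸ Nat.card_le_card_of_injective
        (fun q => (⟨_, hk q⟩ : P))
        fun a b hab => Subtype.ext (Subtype.ext (congrArg Subtype.val hab :))
      have hQcard : 64 ≤ Nat.card (Q.map τ) := by
        obtain ⟨h16, -⟩ := (((D.quot T hTQ).quot P hPQ).dichotomy _ hKab hKexp hKab).resolve_left hKne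
        have := Subgroup.card_mul_index (P.subgroupOf (Q.map τ))
        rw [Nat.card_congr (Subgroup.subgroupOfEquivOfLe hPQ).toEquiv, hP4,
          show (P.subgroupOf (Q.map τ)).index = P.relIndex (Q.map τ) from rfl] at this
        rw [← Subgroup.relIndex_ker (Q.map τ) σ, QuotientGroup.ker_mk'] at h16
        omega
      have hr : Nat.card f.range ≤ 2 := hL2 ▸ Subgroup.card_le_card_group _
      have := Subgroup.card_mul_index f.ker
      rw [Subgroup.index_ker] at this
      nlinarith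
    · intro q hq
      obtain ⟨c, hc, he⟩ := (h.ge (Subgroup.mem_map_of_mem σ hq) : σ q ∈ Cz.map σ)
      have := mul_mem hc (hPCz (QuotientGroup.eq.1 he))
      rw [mul_inv_cancel_left] at this
      exact this.2
  -- a commutator outside the bottom layer
  obtain ⟨u, hu, v, hv, huv⟩ : ∃ u ∈ Q, ∃ v ∈ Q, ⁅u, v⁆ ∉ S := by
    by_contra h
    push Not at h
    have h0 : commutator (Q.map π) = ⊥ := by
      rw [_root_.commutator_def, Subgroup.commutator_eq_bot_iff_le_centralizer]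
      rintro ⟨_, a, ha, rfl⟩ -
      refine mem_centralizer_iff.2 ?_
      rintro ⟨_, b, hb, rfl⟩ -
      apply Subtype.ext
      show π b * π a = π a * π b
      rw [← commutatorElement_eq_one_iff_mul_comm, ← map_commutatorElement, hπS]
      exact h b hb a ha
    have h1 : commutator (Q.map π) = center (Q.map π) := hes1.1.2.2
    have h2 : Nat.card (center (Q.map π)) = 2 := hes1.2
    rw [← h1, h0, Subgroup.card_bot] at h2
    omega
  set c := τ ⁅u, v⁆ with hc
  have hcP : c ∈ P := Subgroup.mem_map_of_mem τ (commutator_mem_of_squares D (frat Q)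
    (fun x hx => sq_mem_frat D hx) hu hv)
  have hcL : c ∉ L := by
    rintro ⟨s, hs, he⟩
    have := mul_mem hs (hTlt.le (QuotientGroup.eq.1 he))
    rw [mul_inv_cancel_left] at this
    exact huv this
  have hc2 : c ^ 2 = 1 := by
    have h1 : ⁅τ u ^ 2, τ v⁆ = 1 := commutatorElement_eq_one_iff_mul_comm.2
      (hPcenQ _ (Subgroup.mem_map_of_mem τ hv) _ (hsqP _ (Subgroup.mem_map_of_mem τ hu))).symm
    have e : ⁅τ u ^ 2, τ v⁆ = τ u * ⁅τ u, τ v⁆ * (τ u)⁻¹ * ⁅τ u, τ v⁆ := by
      simp only [pow_two, commutatorElement_def]; group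
    rw [e, ← map_commutatorElement, ← hc,
      hPcenQ _ (Subgroup.mem_map_of_mem τ hu) c hcP, mul_inv_cancel_right, ← pow_two] at h1
    exact h1
  have hPc : P = L ⊔ zpowers c := by
    refine (Subgroup.eq_of_le_of_card_ge (sup_le hLP (zpowers_le.2 hcP)) ?_).symm
    obtain ⟨k, hk⟩ := Subgroup.card_dvd_of_le (le_sup_left : L ≤ L ⊔ zpowers c)
    have hk1 : k ≠ 1 := fun h1 => hcL (by
      rw [h1, mul_one] at hk
      exact Subgroup.eq_of_le_of_card_ge (le_sup_left : L ≤ L ⊔ zpowers c) hk.le ▸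
        mem_sup_right (mem_zpowers c))
    have hk0 : k ≠ 0 := fun h0 => by
      rw [h0, mul_zero] at hk
      exact (Nat.card_pos (α := (L ⊔ zpowers c : Subgroup (Y ⧸ T)))).ne' hk
    rw [hP4, hk, hL2]
    omega
  have hPexp : ∀ x ∈ P, x ^ 2 = 1 := by
    intro x hx
    rw [hPc] at hx
    rcases CfsgLib.PGroups.NoSCNThree.mem_sup_zpowers hc2 hx with h | ⟨l, hl, rfl⟩
    · exact hLexp x h
    · rw [Commute.mul_pow (hPab l (hLP hl) c hcP), hLexp l hl, hc2, one_mul]
  refine no_four_layer (D.quot T hTQ) P hPQ hP4 hPexp hsqP hPcenQ hVP ?_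
  intro x hx
  by_contra h
  push Not at h
  haveI : (zpowers x).Normal := ⟨fun n hn y => by
    rw [((D.quot T hTQ).dichotomy P hPab hPexp hPcenQ).resolve_right (fun h => by omega) y n
      (zpowers_le.2 hx hn), mul_inv_cancel_right]
    exact hn⟩
  have hle : P ≤ zpowers x := by
    rintro _ ⟨w, hw, rfl⟩
    exact (frat_le_of_squares D ((zpowers x).comap τ) fun q hq => by
      rw [Subgroup.mem_comap, map_pow]; exact h _ (Subgroup.mem_map_of_mem τ hq)) hw
  have := Subgroup.card_le_of_le hle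
  rw [hP4, Nat.card_zpowers] at this
  have := Nat.le_of_dvd (by norm_num) (orderOf_dvd_of_pow_eq_one (hPexp x hx))
  omega

end CfsgLib.Small.ConstrainedFive
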