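import Cfsg.Prelude
import Cfsg.Agent.Lib.Small.ExtraspecialThirtyTwo
import Cfsg.Agent.Lib.PGroups.Basic

/-!
# Layers of the 2-core below an alternating group of degree five

`Q` is a normal 2-subgroup of `Y` with `Y/Q ≅ A₅` and `Y` has sectional 2-rank at most four.
An elementary abelian normal layer is either centralised, or has order 16 on which elements of
order five are fixed-point-free and involutions fix exactly a four-group.
-/

set_option autoImplicit false
set_option linter.unusedSectionVars false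
set_option linter.style.haveILetI false

namespace CfsgLib.Small.ConstrainedFive

open Subgroup
open scoped commutatorElement

/-- The data: a 2-group `Q` below `A₅`, with two involutions with product of order five and an
element of order three modulo `Q`. -/
structure Five (Y : Type*) [Group Y] (Q : Subgroup Y) where
  π : Y →* alternatingGroup (Fin 5)
  surj : Function.Surjective π
  ker_eq : π.ker = Q
  t : Y
  t' : Y
  g : Y
  t_sq : t ^ 2 ∈ Q
  t'_sq : t' ^ 2 ∈ Q
  t_notMem : t ∉ Q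
  five : (t * t') ^ 5 ∈ Q
  five_notMem : t * t' ∉ Q
  three : g ^ 3 ∈ Q
  g_notMem : g ∉ Q
  two : IsPGroup 2 Q
  rank : Cfsg.SectionalPRankLE 2 4 Y

variable {Y : Type*} [Group Y] {Q : Subgroup Y}

/-- An elementary abelian section has order at most sixteen. -/
theorem relIndex_le [Finite Y] (hr : Cfsg.SectionalPRankLE 2 4 Y) {N H : Subgroup Y}
    (_hNH : N ≤ H) (hn : ∀ h ∈ H, ∀ n ∈ N, h * n * h⁻¹ ∈ N)
    (hc : ∀ a ∈ H, ∀ b ∈ H, ⁅a, b⁆ ∈ N) (hs : ∀ a ∈ H, a ^ 2 ∈ N) : N.relIndex H ≤ 16 := by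
  haveI : (N.subgroupOf H).Normal := ⟨fun n hn' h => by
    rw [Subgroup.mem_subgroupOf] at hn' ⊢
    exact hn h h.2 n hn'⟩
  have hcomm : IsMulCommutative (⊤ : Subgroup (H ⧸ N.subgroupOf H)) := ⟨⟨fun a b => Subtype.ext (by
    obtain ⟨x, hx⟩ := QuotientGroup.mk'_surjective _ (a : H ⧸ N.subgroupOf H)
    obtain ⟨y, hy⟩ := QuotientGroup.mk'_surjective _ (b : H ⧸ N.subgroupOf H)
    show (a : H ⧸ N.subgroupOf H) * b = b * a
    rw [← hx, ← hy, ← commutatorElement_eq_one_iff_mul_comm, ← map_commutatorElement]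
    exact (QuotientGroup.eq_one_iff _).2 (hc _ x.2 _ y.2))⟩⟩
  have hsq : ∀ a ∈ (⊤ : Subgroup (H ⧸ N.subgroupOf H)), a ^ 2 = 1 := by
    intro a _
    obtain ⟨x, rfl⟩ := QuotientGroup.mk'_surjective _ a
    rw [← map_pow]
    exact (QuotientGroup.eq_one_iff _).2 (hs _ x.2)
  have h := hr H (N.subgroupOf H) ⊤ hcomm hsq
  rw [Subgroup.card_top] at h
  show (N.subgroupOf H).index ≤ 16
  rwa [Subgroup.index_eq_card]

/-- An elementary abelian subgroup has order at most sixteen. -/
theorem card_le_sixteen [Finite Y] (hr : Cfsg.SectionalPRankLE 2 4 Y) (K : Subgroup Y)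
    (hc : ∀ a ∈ K, ∀ b ∈ K, a * b = b * a) (hs : ∀ a ∈ K, a ^ 2 = 1) : Nat.card K ≤ 16 := by
  have h := relIndex_le hr (bot_le : ⊥ ≤ K)
    (fun h _ n hn => by rw [Subgroup.mem_bot.1 hn]; simp)
    (fun a ha b hb => Subgroup.mem_bot.2 (commutatorElement_eq_one_iff_mul_comm.2 (hc a ha b hb)))
    (fun a ha => Subgroup.mem_bot.2 (hs a ha))
  rwa [Subgroup.relIndex_bot_left] at h

theorem Five.normal (D : Five Y Q) : Q.Normal := D.ker_eq ▸ inferInstance

/-- Passage to a quotient by a normal subgroup inside `Q`. -/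
noncomputable def Five.quot [Finite Y] (D : Five Y Q) (S : Subgroup Y) [S.Normal] (hS : S ≤ Q) :
    Five (Y ⧸ S) (Q.map (QuotientGroup.mk' S)) := by
  have hmem : ∀ y : Y, QuotientGroup.mk' S y ∈ Q.map (QuotientGroup.mk' S) → y ∈ Q := by
    rintro y ⟨q, hq, hqy⟩
    have h := hS (QuotientGroup.eq.1 hqy)
    simpa using mul_mem hq h
  exact
  { π := QuotientGroup.lift S D.π (hS.trans D.ker_eq.ge)
    surj := fun x => by
      obtain ⟨y, rfl⟩ := D.surj x
      exact ⟨QuotientGroup.mk' S y, rfl⟩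
    ker_eq := by
      ext x
      obtain ⟨y, rfl⟩ := QuotientGroup.mk'_surjective S x
      constructor
      · intro h
        exact Subgroup.mem_map_of_mem _ (D.ker_eq ▸ MonoidHom.mem_ker.2 h)
      · intro h
        exact MonoidHom.mem_ker.2 (MonoidHom.mem_ker.1 (D.ker_eq.symm ▸ hmem y h : y ∈ D.π.ker))
    t := QuotientGroup.mk' S D.t
    t' := QuotientGroup.mk' S D.t'
    g := QuotientGroup.mk' S D.g
    t_sq := by rw [← map_pow]; exact Subgroup.mem_map_of_mem _ D.t_sq
    t'_sq := by rw [← map_pow]; exact Subgroup.mem_map_of_mem _ D.t'_sq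
    t_notMem := fun h => D.t_notMem (hmem _ h)
    five := by rw [← map_mul, ← map_pow]; exact Subgroup.mem_map_of_mem _ D.five
    five_notMem := fun h => D.five_notMem (hmem _ (by rwa [map_mul]))
    three := by rw [← map_pow]; exact Subgroup.mem_map_of_mem _ D.three
    g_notMem := fun h => D.g_notMem (hmem _ h)
    two := D.two.map _
    rank := by
      intro H N _ A hA hAp
      set f := QuotientGroup.mk' S
      let p : H.comap f →* H ⧸ N :=
        (QuotientGroup.mk' N).comp ((f.comp (H.comap f).subtype).codRestrict H fun x => x.2)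
      have hp : Function.Surjective p := by
        intro q
        obtain ⟨⟨y, hy⟩, rfl⟩ := QuotientGroup.mk'_surjective N q
        obtain ⟨x, rfl⟩ := QuotientGroup.mk'_surjective S y
        exact ⟨⟨x, hy⟩, rfl⟩
      let e : H.comap f ⧸ p.ker ≃* H ⧸ N := QuotientGroup.quotientKerEquivOfSurjective p hp
      have h := D.rank (H.comap f) p.ker (A.map e.symm.toMonoidHom)
        ⟨⟨by
          rintro ⟨_, a, ha, rfl⟩ ⟨_, b, hb, rfl⟩
          exact Subtype.ext (show e.symm a * e.symm b = e.symm b * e.symm a by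
            rw [← map_mul, ← map_mul]
            exact congrArg e.symm (congrArg Subtype.val (hA.is_comm.comm ⟨a, ha⟩ ⟨b, hb⟩)))⟩⟩
        (by
          rintro _ ⟨a, ha, rfl⟩
          show e.symm a ^ 2 = 1
          rw [← map_pow, hAp a ha, map_one])
      rwa [← Nat.card_congr (A.equivMapOfInjective e.symm.toMonoidHom e.symm.injective).toEquiv]
        at h }

section

variable [Finite Y] (D : Five Y Q) (K : Subgroup Y) [K.Normal]
include D

/-- An elementary abelian layer is centralised or is a faithful module of order sixteen. -/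
theorem Five.dichotomy (hab : ∀ a ∈ K, ∀ b ∈ K, a * b = b * a) (hexp : ∀ a ∈ K, a ^ 2 = 1)
    (hcent : ∀ q ∈ Q, ∀ k ∈ K, q * k = k * q) :
    (∀ y : Y, ∀ k ∈ K, y * k = k * y) ∨
      (Nat.card K = 16 ∧ (∀ y : Y, y ^ 5 ∈ Q → y ∉ Q → ∀ k ∈ K, y * k = k * y → k = 1) ∧
        ∀ y : Y, (∀ k ∈ K, y * k = k * y) → y ∈ Q) := by
  set φ : Y →* MulAut K := MulAut.conjNormal with hφ
  have hfix : ∀ (y : Y) (k : K), φ y k = k ↔ y * (k : Y) = k * y := fun y k => by
    rw [Subtype.ext_iff, MulAut.conjNormal_apply, mul_inv_eq_iff_eq_mul]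
  have hone : ∀ y : Y, φ y = 1 ↔ ∀ k ∈ K, y * k = k * y := fun y =>
    ⟨fun h k hk => (hfix y ⟨k, hk⟩).1 (by rw [h]; rfl),
      fun h => MulEquiv.ext fun k => (hfix y k).2 (h k k.2)⟩
  have hQker : D.π.ker ≤ φ.ker := D.ker_eq.le.trans fun q hq =>
    MonoidHom.mem_ker.2 ((hone q).2 (hcent q hq))
  haveI : IsSimpleGroup (alternatingGroup (Fin 5)) := alternatingGroup.isSimpleGroup (by simp)
  rcases (Subgroup.Normal.map (inferInstance : φ.ker.Normal) D.π D.surj).eq_bot_or_eq_top
    with h | h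
  swap
  · left
    intro y
    refine (hone y).1 (MonoidHom.mem_ker.1 ?_)
    have : y ∈ (φ.ker.map D.π).comap D.π := by rw [h]; exact Subgroup.mem_top _
    rwa [Subgroup.comap_map_eq, sup_eq_left.2 hQker] at this
  · right
    have hker : φ.ker ≤ Q := by
      rw [← D.ker_eq]
      exact (Subgroup.map_eq_bot_iff _).1 h
    have key : ∀ y : Y, y ^ 5 ∈ Q → y ∉ Q →
        Nat.card K = 16 ∧ ∀ k ∈ K, y * k = k * y → k = 1 := by
      intro y h5 hy
      haveI : Fact (Nat.Prime 5) := ⟨by norm_num⟩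
      have hm := card_fixed_aut_modEq (p := 5) (φ := φ y)
        (by rw [← map_pow, (hone _).2 (hcent _ h5)]) (P := fun _ => True) (fun _ _ => trivial)
      set F : Subgroup K := (φ y).toMonoidHom.eqLocus (MonoidHom.id K) with hF
      have hmF : ∀ k : K, k ∈ F ↔ φ y k = k := fun k => Iff.rfl
      have e1 : Nat.card {q : K // True ∧ φ y q = q} = Nat.card F :=
        Nat.card_congr (Equiv.subtypeEquivRight fun k => by rw [true_and]; exact (hmF k).symm)
      have e2 : Nat.card {q : K // True} = Nat.card K :=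
        Nat.card_congr (Equiv.subtypeUnivEquiv fun _ => trivial)
      rw [e1, e2] at hm
      haveI : Fact (Nat.Prime 2) := ⟨Nat.prime_two⟩
      have hK2 : IsPGroup 2 K := fun k => ⟨1, Subtype.ext (hexp k k.2)⟩
      obtain ⟨i, hi⟩ := IsPGroup.iff_card.1 hK2
      obtain ⟨j, hj⟩ := IsPGroup.iff_card.1 (hK2.to_subgroup F)
      have hi4 : i ≤ 4 := (Nat.pow_le_pow_iff_right (by norm_num : 1 < 2)).1
        ((hi ▸ card_le_sixteen D.rank K hab hexp).trans (by norm_num : (16 : ℕ) ≤ 2 ^ 4))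
      have hji : j ≤ i := (Nat.pow_le_pow_iff_right (by norm_num : 1 < 2)).1
        (hi ▸ hj ▸ Subgroup.card_le_card_group F)
      have hne : j ≠ i := by
        intro he
        have hT : F = ⊤ := Subgroup.eq_top_of_card_eq _ (by rw [hj, hi, he])
        refine hy (hker (MonoidHom.mem_ker.2 (MulEquiv.ext fun k => ?_)))
        exact (hmF k).1 (hT ▸ Subgroup.mem_top k)
      rw [hi, hj] at hm
      have h04 : j = 0 ∧ i = 4 := by
        unfold Nat.ModEq at hm
        interval_cases i <;> interval_cases j <;> norm_num at hm <;> omega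
      refine ⟨by rw [hi, h04.2]; norm_num, fun k hk hyk => ?_⟩
      have hkF : (⟨k, hk⟩ : K) ∈ F := (hmF _).2 ((hfix _ _).2 hyk)
      rw [Subgroup.card_eq_one.1 (show Nat.card F = 1 by rw [hj, h04.1, pow_zero]),
        Subgroup.mem_bot] at hkF
      exact congrArg Subtype.val hkF
    exact ⟨(key _ D.five D.five_notMem).1, fun y h5 hy => (key y h5 hy).2,
      fun y hy => hker (MonoidHom.mem_ker.2 ((hone y).2 hy))⟩

/-- A normal subgroup of a nontrivial layer is trivial or everything. -/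
theorem Five.irreducible (hab : ∀ a ∈ K, ∀ b ∈ K, a * b = b * a) (hexp : ∀ a ∈ K, a ^ 2 = 1)
    (hcent : ∀ q ∈ Q, ∀ k ∈ K, q * k = k * q)
    (hK : ¬ ∀ y : Y, ∀ k ∈ K, y * k = k * y) (U : Subgroup Y) [U.Normal] (hU : U ≤ K) :
    U = ⊥ ∨ U = K := by
  obtain ⟨h16, hfree, -⟩ := (D.dichotomy K hab hexp hcent).resolve_left hK
  rcases D.dichotomy U (fun a ha b hb => hab a (hU ha) b (hU hb)) (fun a ha => hexp a (hU ha))
    (fun q hq k hk => hcent q hq k (hU hk)) with h | ⟨hU16, -⟩
  · left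
    rw [Subgroup.eq_bot_iff_forall]
    exact fun k hk => hfree _ D.five D.five_notMem k (hU hk) (h _ k hk)
  · right
    exact Subgroup.eq_of_le_of_card_ge hU (by rw [hU16, h16])

/-- In a nontrivial layer an involution fixes exactly a four-group, all of whose elements are
commutators with it. -/
theorem Five.involution (hab : ∀ a ∈ K, ∀ b ∈ K, a * b = b * a) (hexp : ∀ a ∈ K, a ^ 2 = 1)
    (hcent : ∀ q ∈ Q, ∀ k ∈ K, q * k = k * q)
    (hK : ¬ ∀ y : Y, ∀ k ∈ K, y * k = k * y) :
    Nat.card (K ⊓ centralizer ({D.t} : Set Y) : Subgroup Y) = 4 ∧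
      ∀ c ∈ K, D.t * c = c * D.t → ∃ v ∈ K, c = ⁅D.t, v⁆ := by
  obtain ⟨h16, hfree, -⟩ := (D.dichotomy K hab hexp hcent).resolve_left hK
  haveI : Fact (Nat.Prime 2) := ⟨Nat.prime_two⟩
  have hmem : ∀ y v : Y, v ∈ K → ⁅y, v⁆ ∈ K := fun y v hv => by
    rw [commutatorElement_def]
    exact mul_mem ((inferInstance : K.Normal).conj_mem v hv y) (inv_mem hv)
  have hinv : ∀ k ∈ K, k⁻¹ = k := fun k hk =>
    inv_eq_of_mul_eq_one_right (by rw [← pow_two, hexp k hk])
  have main : ∀ s : Y, s ^ 2 ∈ Q →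
      4 ≤ Nat.card (K ⊓ centralizer ({s} : Set Y) : Subgroup Y) ∧
      (Nat.card (K ⊓ centralizer ({s} : Set Y) : Subgroup Y) = 4 →
        ∀ c ∈ K, s * c = c * s → ∃ v ∈ K, c = ⁅s, v⁆) := by
    intro s hs
    set C := K ⊓ centralizer ({s} : Set Y) with hC
    let f : K →* K := MonoidHom.mk' (fun v => ⟨⁅s, (v : Y)⁆, hmem s v v.2⟩) (fun v w => by
      apply Subtype.ext
      show ⁅s, (v : Y) * w⁆ = ⁅s, (v : Y)⁆ * ⁅s, (w : Y)⁆
      have e : ⁅s, (v : Y) * w⁆ = ⁅s, (v : Y)⁆ * (v * ⁅s, (w : Y)⁆ * (v : Y)⁻¹) := by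
        simp only [commutatorElement_def]; group
      rw [e, hab v v.2 _ (hmem s w w.2), mul_inv_cancel_right])
    have hker : Nat.card f.ker = Nat.card C := Nat.card_congr
      { toFun := fun v => ⟨v.1, v.1.2, mem_centralizer_singleton_iff.2
          (commutatorElement_eq_one_iff_mul_comm.1
            (congrArg Subtype.val (MonoidHom.mem_ker.1 v.2))).symm⟩
        invFun := fun c => ⟨⟨c, c.2.1⟩, MonoidHom.mem_ker.2 (Subtype.ext
          (commutatorElement_eq_one_iff_mul_comm.2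
            (mem_centralizer_singleton_iff.1 c.2.2).symm))⟩
        left_inv := fun v => rfl
        right_inv := fun c => rfl }
    have hrange : ∀ v : K, (f v : Y) ∈ C := fun v => by
      refine ⟨(f v).2, mem_centralizer_singleton_iff.2 ?_⟩
      show ⁅s, (v : Y)⁆ * s = s * ⁅s, (v : Y)⁆
      have hd : ⁅s, (v : Y)⁆ ∈ K := hmem s v v.2
      have h2 : ⁅s ^ 2, (v : Y)⁆ = 1 :=
        commutatorElement_eq_one_iff_mul_comm.2 (hcent _ hs v v.2)
      have e : ⁅s ^ 2, (v : Y)⁆ = s * ⁅s, (v : Y)⁆ * s⁻¹ * ⁅s, (v : Y)⁆ := by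
        simp only [pow_two, commutatorElement_def]; group
      rw [h2] at e
      have := eq_inv_of_mul_eq_one_left e.symm
      rw [hinv _ hd, mul_inv_eq_iff_eq_mul] at this
      exact this.symm
    have hle : Nat.card f.range ≤ Nat.card C :=
      Nat.card_le_card_of_injective (fun x => (⟨(x.1 : Y), by
        obtain ⟨v, hv⟩ := x.2
        rw [← hv]; exact hrange v⟩ : C))
        fun a b h => Subtype.ext (Subtype.ext (congrArg Subtype.val h :))
    have hprod : Nat.card f.range * Nat.card C = 16 := by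
      rw [← hker, ← h16, ← Subgroup.card_mul_index f.ker, Subgroup.index_ker, mul_comm]
    refine ⟨by nlinarith, fun hC4 c hc hsc => ?_⟩
    have hr4 : Nat.card f.range = 4 := by rw [hC4] at hprod; omega
    have hbij := (Nat.bijective_iff_injective_and_card
      (fun x : f.range => (⟨(x.1 : Y), by
        obtain ⟨v, hv⟩ := x.2
        rw [← hv]; exact hrange v⟩ : C))).2
      ⟨fun a b h => Subtype.ext (Subtype.ext (congrArg Subtype.val h :)), hr4.trans hC4.symm⟩
    obtain ⟨⟨_, v, rfl⟩, hv⟩ :=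
      hbij.2 ⟨c, hc, mem_centralizer_singleton_iff.2 hsc.symm⟩
    exact ⟨v, v.2, (congrArg Subtype.val hv).symm⟩
  obtain ⟨ht, htc⟩ := main D.t D.t_sq
  obtain ⟨ht', -⟩ := main D.t' D.t'_sq
  suffices h4 : Nat.card (K ⊓ centralizer ({D.t} : Set Y) : Subgroup Y) = 4 from ⟨h4, htc h4⟩
  set C := K ⊓ centralizer ({D.t} : Set Y) with hC
  set C' := K ⊓ centralizer ({D.t'} : Set Y) with hC'
  have hbot : C ⊓ C' = ⊥ := by
    rw [Subgroup.eq_bot_iff_forall]
    rintro c ⟨⟨hcK, hct⟩, -, hct'⟩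
    refine hfree _ D.five D.five_notMem c hcK ?_
    rw [mul_assoc, (mem_centralizer_singleton_iff.1 hct').symm, ← mul_assoc,
      (mem_centralizer_singleton_iff.1 hct).symm, mul_assoc]
  have hinj : Function.Injective (fun p : C × C' =>
      (⟨(p.1 : Y) * p.2, mul_mem p.1.2.1 p.2.2.1⟩ : K)) := by
    rintro ⟨a, b⟩ ⟨a', b'⟩ h
    have h' : (a : Y) * b = a' * b' := congrArg Subtype.val h
    have hm : (a' : Y)⁻¹ * a ∈ C ⊓ C' := by
      refine Subgroup.mem_inf.2 ⟨mul_mem (inv_mem a'.2) a.2, ?_⟩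
      have : (a' : Y)⁻¹ * a = b' * (b : Y)⁻¹ := by
        calc (a' : Y)⁻¹ * a = (a' : Y)⁻¹ * (a * b) * (b : Y)⁻¹ := by group
          _ = b' * (b : Y)⁻¹ := by rw [h']; group
      rw [this]
      exact mul_mem b'.2 (inv_mem b.2)
    rw [hbot, Subgroup.mem_bot, inv_mul_eq_one] at hm
    have ha : a' = a := Subtype.ext hm
    subst ha
    rw [Prod.mk.injEq]
    exact ⟨rfl, Subtype.ext (mul_left_cancel h')⟩
  have hle := Nat.card_le_card_of_injective _ hinj
  rw [Nat.card_prod, h16] at hle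
  nlinarith

end

end CfsgLib.Small.ConstrainedFive
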