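import Cfsg.Agent.Lib.Small.ConstrainedFive.Module
import Cfsg.Agent.Lib.PGroups.NoSCNThree.Basic

/-!
# Two nontrivial layers contradict sectional rank four
-/

set_option autoImplicit false
set_option linter.unusedSectionVars false
set_option linter.style.haveILetI false

namespace CfsgLib.Small.ConstrainedFive

open Subgroup
open scoped commutatorElement

variable {Y : Type*} [Group Y] [Finite Y] {Q : Subgroup Y}

/-- The top layer as an elementary abelian subgroup of `Y/R`. -/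
theorem top_layer (D : Five Y Q) (R : Subgroup Y) [R.Normal] (hsq : ∀ x ∈ Q, x ^ 2 ∈ R) :
    haveI := D.normal
    (∀ a ∈ Q.map (QuotientGroup.mk' R), a ^ 2 = 1) ∧
      (∀ a ∈ Q.map (QuotientGroup.mk' R), ∀ b ∈ Q.map (QuotientGroup.mk' R), a * b = b * a) := by
  have h1 : ∀ a ∈ Q.map (QuotientGroup.mk' R), a ^ 2 = 1 := by
    rintro _ ⟨x, hx, rfl⟩
    rw [← map_pow]
    exact (QuotientGroup.eq_one_iff _).2 (hsq x hx)
  refine ⟨h1, fun a ha b hb => ?_⟩
  exact congrArg Subtype.val (CfsgLib.PGroups.NoSCNThree.comm_of_sq_one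
    (Q := ↥(Q.map (QuotientGroup.mk' R))) (fun q => Subtype.ext (h1 q q.2)) ⟨a, ha⟩ ⟨b, hb⟩)

theorem commutator_mem_of_squares (D : Five Y Q) (R : Subgroup Y) [R.Normal]
    (hsq : ∀ x ∈ Q, x ^ 2 ∈ R) {x y : Y} (hx : x ∈ Q) (hy : y ∈ Q) : ⁅x, y⁆ ∈ R := by
  rw [← QuotientGroup.eq_one_iff]
  show QuotientGroup.mk' R ⁅x, y⁆ = 1
  rw [map_commutatorElement, commutatorElement_eq_one_iff_mul_comm]
  exact (top_layer D R hsq).2 _ (Subgroup.mem_map_of_mem _ hx) _ (Subgroup.mem_map_of_mem _ hy)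

theorem two_layers (D : Five Y Q) (R : Subgroup Y) [R.Normal] (hRQ : R ≤ Q)
    (hsq : ∀ x ∈ Q, x ^ 2 ∈ R) (hexp : ∀ r ∈ R, r ^ 2 = 1)
    (hcen : ∀ q ∈ Q, ∀ r ∈ R, q * r = r * q)
    (hV : ∃ y : Y, ∃ x ∈ Q, ⁅y, x⁆ ∉ R) (hF : ∃ y : Y, ∃ r ∈ R, y * r ≠ r * y) : False := by
  classical
  haveI := D.normal
  have hRab : ∀ a ∈ R, ∀ b ∈ R, a * b = b * a := fun a ha b hb => hcen a (hRQ ha) b hb
  obtain ⟨hN4, -⟩ := D.involution R hRab hexp hcen (by push Not; exact hF)
  set π := QuotientGroup.mk' R with hπ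
  haveI : (Q.map π).Normal := Subgroup.Normal.map inferInstance π (QuotientGroup.mk'_surjective R)
  obtain ⟨hKexp, hKab⟩ := top_layer D R hsq
  have hKcen : ∀ q ∈ Q.map π, ∀ k ∈ Q.map π, q * k = k * q := hKab
  obtain ⟨hW4, hWc⟩ := (D.quot R hRQ).involution (Q.map π) hKab hKexp hKcen (by
    push Not
    obtain ⟨y, x, hx, hyx⟩ := hV
    refine ⟨π y, π x, Subgroup.mem_map_of_mem _ hx, fun h => hyx ?_⟩
    rw [← QuotientGroup.eq_one_iff]
    show π ⁅y, x⁆ = 1
    rw [map_commutatorElement, commutatorElement_eq_one_iff_mul_comm]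
    exact h)
  change Nat.card (Q.map π ⊓ centralizer ({π D.t} : Set _) : Subgroup _) = 4 at hW4
  change ∀ c ∈ Q.map π, π D.t * c = c * π D.t → ∃ v ∈ Q.map π, c = ⁅π D.t, v⁆ at hWc
  set W := (Q.map π ⊓ centralizer ({π D.t} : Set _)).comap π with hW
  have hWmem : ∀ {x : Y}, x ∈ W → x ∈ Q ∧ ⁅D.t, x⁆ ∈ R := by
    intro x hx
    obtain ⟨⟨q, hq, hqx⟩, hc⟩ := hx
    constructor
    · have := mul_mem hq (hRQ (QuotientGroup.eq.1 hqx))
      rwa [mul_inv_cancel_left] at this
    · rw [← QuotientGroup.eq_one_iff]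
      show π ⁅D.t, x⁆ = 1
      rw [map_commutatorElement, commutatorElement_eq_one_iff_mul_comm]
      exact (mem_centralizer_singleton_iff.1 hc).symm
  have hW64 : Nat.card R * 4 = Nat.card W := by
    have h := Subgroup.card_mul_index (R.subgroupOf W)
    have hRW : R ≤ W := fun r hr => by
      refine Subgroup.mem_comap.2 ⟨Subgroup.mem_map_of_mem _ (hRQ hr), ?_⟩
      rw [show π r = 1 from (QuotientGroup.eq_one_iff r).2 hr]
      exact one_mem _
    rw [Nat.card_congr (Subgroup.subgroupOfEquivOfLe hRW).toEquiv] at h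
    rw [← h]
    congr 1
    show 4 = R.relIndex W
    rw [← hW4]
    conv_rhs => rw [← QuotientGroup.ker_mk' R]
    rw [Subgroup.relIndex_ker, hW,
      Subgroup.map_comap_eq_self_of_surjective (QuotientGroup.mk'_surjective R)]
  -- a lift of the involution with square in the bottom fixed group
  obtain ⟨v, hv, hvt⟩ : ∃ v ∈ Q, (D.t * v) ^ 2 ∈ R := by
    have htt : π (D.t ^ 2) ∈ Q.map π := Subgroup.mem_map_of_mem _ D.t_sq
    obtain ⟨v₀, ⟨v, hv, rfl⟩, hvc⟩ := hWc _ htt (by rw [map_pow]; exact (Commute.refl _).pow_right 2)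
    refine ⟨v, hv, ?_⟩
    rw [← QuotientGroup.eq_one_iff]
    show π ((D.t * v) ^ 2) = 1
    have hvm := Subgroup.mem_map_of_mem π hv
    have hcm : ⁅π D.t, π v⁆ ∈ Q.map π := by
      rw [← map_commutatorElement, commutatorElement_def]
      exact Subgroup.mem_map_of_mem π
        (mul_mem ((inferInstance : Q.Normal).conj_mem v hv D.t) (inv_mem hv))
    have hinv : ∀ k ∈ Q.map π, k⁻¹ = k := fun k hk =>
      inv_eq_of_mul_eq_one_right (by rw [← pow_two, hKexp k hk])
    have e : (π D.t * π v) ^ 2 = ⁅π D.t, π v⁆ * (π v * π D.t ^ 2 * π v) := by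
      simp only [pow_two, commutatorElement_def]; group
    rw [map_pow, map_mul, e, ← map_pow π D.t, hKab _ hvm _ htt, mul_assoc (π (D.t ^ 2)), ← pow_two,
      hKexp _ hvm, mul_one, hvc, ← pow_two, hKexp _ hcm]
  set t := D.t * v with ht
  set N := R ⊓ centralizer ({D.t} : Set Y) with hN
  have hNmem : ∀ {x : Y}, x ∈ R → t * x = x * t → x ∈ N := by
    intro x hx hxt
    refine Subgroup.mem_inf.2 ⟨hx, mem_centralizer_singleton_iff.2 (mul_right_cancel (b := v) ?_)⟩
    calc x * D.t * v = t * x := by rw [mul_assoc]; exact hxt.symm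
      _ = D.t * (x * v) := by rw [ht, mul_assoc, hcen v hv x hx]
      _ = D.t * x * v := (mul_assoc _ _ _).symm
  have hNt : ∀ {x : Y}, x ∈ N → t * x = x * t := by
    rintro x ⟨hx, hxt⟩
    rw [ht, mul_assoc, hcen v hv x hx, ← mul_assoc, ← mem_centralizer_singleton_iff.1 hxt, mul_assoc]
  have ht2N : t ^ 2 ∈ N := hNmem hvt ((Commute.refl t).pow_right 2)
  have hWt : ∀ {x : Y}, x ∈ W → ⁅t, x⁆ ∈ R := by
    intro x hx
    obtain ⟨hxQ, hxt⟩ := hWmem hx
    have e : ⁅t, x⁆ = D.t * ⁅v, x⁆ * D.t⁻¹ * ⁅D.t, x⁆ := by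
      rw [ht]; simp only [commutatorElement_def]; group
    rw [e]
    exact mul_mem ((inferInstance : R.Normal).conj_mem _
      (commutator_mem_of_squares D R hsq hv hxQ) _) hxt
  have hconjW : ∀ {x : Y}, x ∈ W → ∃ r ∈ R, t * x * t⁻¹ = r * x := fun {x} hx =>
    ⟨⁅t, x⁆, hWt hx, by rw [commutatorElement_def, inv_mul_cancel_right]⟩
  have hN1 : ∀ x ∈ W, x ^ 2 ∈ N := by
    intro x hx
    obtain ⟨r, hr, hrx⟩ := hconjW hx
    refine hNmem (hsq x (hWmem hx).1) (mul_inv_eq_iff_eq_mul.1 ?_)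
    rw [← conj_pow, hrx, Commute.mul_pow (hcen x (hWmem hx).1 r hr).symm, hexp r hr, one_mul]
  have hN2 : ∀ x ∈ W, ∀ y ∈ W, ⁅x, y⁆ ∈ N := by
    intro x hx y hy
    obtain ⟨r, hr, hrx⟩ := hconjW hx
    obtain ⟨r', hr', hry⟩ := hconjW hy
    refine hNmem (commutator_mem_of_squares D R hsq (hWmem hx).1 (hWmem hy).1)
      (mul_inv_eq_iff_eq_mul.1 ?_)
    show MulAut.conj t ⁅x, y⁆ = ⁅x, y⁆
    rw [map_commutatorElement, MulAut.conj_apply, MulAut.conj_apply, hrx, hry]
    have h1 : ∀ q ∈ Q, Commute r q := fun q hq => (hcen q hq r hr).symm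
    have h2 : ∀ q ∈ Q, Commute r' q := fun q hq => (hcen q hq r' hr').symm
    have hxQ := (hWmem hx).1
    have hyQ := (hWmem hy).1
    have e1 : ⁅r * x, r' * y⁆ = r * ⁅x, r' * y⁆ * r⁻¹ * ⁅r, r' * y⁆ := by
      simp only [commutatorElement_def]; group
    have e2 : ⁅x, r' * y⁆ = ⁅x, r'⁆ * (r' * ⁅x, y⁆ * r'⁻¹) := by
      simp only [commutatorElement_def]; group
    have hxy : ⁅x, y⁆ ∈ Q := hRQ (commutator_mem_of_squares D R hsq hxQ hyQ)
    rw [e1, e2, commutatorElement_eq_one_iff_mul_comm.2 (h1 _ (mul_mem (hRQ hr') hyQ)),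
      commutatorElement_eq_one_iff_mul_comm.2 (h2 x hxQ).symm, one_mul, mul_one,
      (h2 _ hxy).eq, mul_inv_cancel_right, (h1 _ hxy).eq, mul_inv_cancel_right]
  have hN3 : ∀ x ∈ W, ⁅t, x⁆ ∈ N := by
    intro x hx
    have hd := hWt hx
    refine hNmem hd (mul_inv_eq_iff_eq_mul.1 ?_)
    have h2 : ⁅t ^ 2, x⁆ = 1 :=
      commutatorElement_eq_one_iff_mul_comm.2 (hcen x (hWmem hx).1 _ hvt).symm
    have e : ⁅t ^ 2, x⁆ = t * ⁅t, x⁆ * t⁻¹ * ⁅t, x⁆ := by
      simp only [pow_two, commutatorElement_def]; group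
    rw [h2] at e
    rw [eq_inv_of_mul_eq_one_left e.symm]
    exact inv_eq_of_mul_eq_one_right (by rw [← pow_two, hexp _ hd])
  set M := W ⊔ zpowers t with hM
  -- in the quotient by the fixed group everything commutes
  have hNW : N ≤ W := fun n hn => by
    refine Subgroup.mem_comap.2 ⟨Subgroup.mem_map_of_mem _ (hRQ hn.1), ?_⟩
    rw [show π n = 1 from (QuotientGroup.eq_one_iff n).2 hn.1]
    exact one_mem _
  have hNc : M ≤ centralizer (N : Set Y) := by
    refine sup_le (fun x hx => mem_centralizer_iff.2 fun n hn => ?_) (zpowers_le.2 ?_)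
    · exact (hcen x (hWmem hx).1 n hn.1).symm
    · exact mem_centralizer_iff.2 fun n hn => (hNt hn).symm
  haveI hnorm : (N.subgroupOf M).Normal := ⟨fun n hn h => by
    rw [Subgroup.mem_subgroupOf] at hn ⊢
    have := mem_centralizer_iff.1 (hNc h.2) n hn
    show (h : Y) * n * (h : Y)⁻¹ ∈ N
    rw [← this, mul_inv_cancel_right]
    exact hn⟩
  set ν := QuotientGroup.mk' (N.subgroupOf M) with hν
  have hν1 : ∀ m : M, ν m = 1 ↔ (m : Y) ∈ N := fun m => QuotientGroup.eq_one_iff m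
  set gens : Set M := {m : M | (m : Y) ∈ W ∨ (m : Y) = t} with hgens
  have hgen : Subgroup.closure gens = ⊤ := by
    rw [eq_top_iff]
    intro m _
    have hle : M ≤ (Subgroup.closure gens).map M.subtype := by
      refine sup_le (fun x hx => ?_) (zpowers_le.2 ?_)
      · exact ⟨⟨x, mem_sup_left hx⟩, Subgroup.subset_closure (Or.inl hx), rfl⟩
      · exact ⟨⟨t, mem_sup_right (mem_zpowers t)⟩, Subgroup.subset_closure (Or.inr rfl), rfl⟩
    obtain ⟨m', hm', he⟩ := hle m.2
    exact (Subtype.ext he : m' = m) ▸ hm'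
  have hcomm : ∀ a ∈ gens, ∀ b ∈ gens, ν a * ν b = ν b * ν a := by
    intro a ha b hb
    rw [← commutatorElement_eq_one_iff_mul_comm, ← map_commutatorElement, hν1]
    show ⁅(a : Y), (b : Y)⁆ ∈ N
    rcases ha with ha | ha <;> rcases hb with hb | hb
    · exact hN2 _ ha _ hb
    · rw [← commutatorElement_inv, hb]; exact inv_mem (hN3 _ ha)
    · rw [ha]; exact hN3 _ hb
    · rw [ha, hb, commutatorElement_self]; exact one_mem _
  have hall : ∀ a b : M, ν a * ν b = ν b * ν a := by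
    intro a b
    have key : Subgroup.closure (ν '' gens) ≤ centralizer (Subgroup.closure (ν '' gens) : Set _) := by
      rw [centralizer_closure, closure_le]
      rintro _ ⟨x, hx, rfl⟩
      refine mem_centralizer_iff.2 ?_
      rintro _ ⟨y, hy, rfl⟩
      exact hcomm y hy x hx
    have htop : ∀ m : M, ν m ∈ Subgroup.closure (ν '' gens) := fun m => by
      rw [← MonoidHom.map_closure, hgen]
      exact Subgroup.mem_map_of_mem ν (Subgroup.mem_top m)
    exact mem_centralizer_iff.1 (key (htop b)) _ (htop a)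
  have hsqM : ∀ m : M, (m : Y) ^ 2 ∈ N := by
    intro m
    have : ν (m ^ 2) = 1 := by
      have hm : m ∈ Subgroup.closure gens := hgen ▸ Subgroup.mem_top m
      induction hm using Subgroup.closure_induction with
      | mem x hx =>
        rw [hν1]
        show (x : Y) ^ 2 ∈ N
        rcases hx with hx | hx
        · exact hN1 _ hx
        · rw [hx]; exact ht2N
      | one => rw [one_pow, map_one]
      | mul x y _ _ hx hy =>
        rw [map_pow] at hx hy ⊢
        rw [map_mul, Commute.mul_pow (hall x y), hx, hy, one_mul]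
      | inv x _ hx => rw [map_pow] at hx ⊢; rw [map_inv, inv_pow, hx, inv_one]
    exact (hν1 _).1 this
  have h := relIndex_le D.rank (hNW.trans le_sup_left : N ≤ M)
    (fun h hh n hn => by rw [← mem_centralizer_iff.1 (hNc hh) n hn, mul_inv_cancel_right]; exact hn)
    (fun a ha b hb => by
      have := (hν1 ⁅(⟨a, ha⟩ : M), ⟨b, hb⟩⁆).1 (by
        rw [map_commutatorElement, commutatorElement_eq_one_iff_mul_comm]; exact hall _ _)
      exact this)
    (fun a ha => hsqM ⟨a, ha⟩)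
  -- the order of the quotient
  have hRcard : Nat.card R = 16 :=
    ((D.dichotomy R hRab hexp hcen).resolve_left (by push Not; exact hF)).1
  have hMW : 2 * Nat.card W ≤ Nat.card M := by
    have hdvd := Subgroup.card_dvd_of_le (le_sup_left : W ≤ M)
    obtain ⟨c, hc⟩ := hdvd
    have hc1 : c ≠ 1 := fun h1 => D.t_notMem (by
      rw [h1, mul_one] at hc
      have heq := Subgroup.eq_of_le_of_card_ge (le_sup_left : W ≤ M) hc.le
      have htW : t ∈ W := heq ▸ mem_sup_right (mem_zpowers t)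
      have := mul_mem (hWmem htW).1 (inv_mem hv)
      rwa [ht, mul_inv_cancel_right] at this)
    have hc0 : c ≠ 0 := fun h0 => by
      rw [h0, mul_zero] at hc
      exact (Nat.card_pos (α := M)).ne' hc
    rw [hc, mul_comm]
    exact Nat.mul_le_mul_left _ (by omega)
  have hMN : Nat.card N * N.relIndex M = Nat.card M := by
    rw [← Subgroup.card_mul_index (N.subgroupOf M),
      Nat.card_congr (Subgroup.subgroupOfEquivOfLe (hNW.trans le_sup_left)).toEquiv]
    rfl
  rw [hN4] at hMN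
  omega

end CfsgLib.Small.ConstrainedFive
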